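import Mathlib.RingTheory.AdicCompletion.Functoriality
import Mathlib.RingTheory.Spectrum.Prime.Topology
import Mathlib.RingTheory.Idempotents
import Mathlib.LinearAlgebra.Matrix.Charpoly.LinearMap
import Mathlib.RingTheory.Localization.Away.Basic
import Mathlib.RingTheory.Filtration
import Mathlib.RingTheory.Localization.Submodule
import Groth.Agent.Lib.Adic.Complete
import Mathlib.RingTheory.Localization.AtPrime.Basic

/-!
# Clopen subsets of a punctured `V(f)` extend to a neighbourhood

`R` is complete for `(f)` and the charts `a` have finitely many functions on the trace on `V(f)` of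
their union.  A clopen subset of this trace is cut out, on a neighbourhood, by a quotient `c / s`.
-/

set_option autoImplicit false

universe u

open PrimeSpectrum

namespace Groth.Agent.H80.Clopen.Nbhd

noncomputable section

variable {R : Type u} [CommRing R] (f : R) {ι : Type} (a : ι → R)

/-- The trace on `V(f)` of the union of the charts. -/
def formalSet : Set (PrimeSpectrum R) := {x | f ∈ x.asIdeal ∧ ∃ i, a i ∉ x.asIdeal}

/-- The functions on a chart. -/
abbrev S (i : ι) : Type u := Localization.Away (a i)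

/-- The functions on an overlap. -/
abbrev S₂ (i j : ι) : Type u := Localization.Away (a i * a j)

/-- Restriction to an overlap, from the first chart. -/
def left (i j : ι) : S a i →ₐ[R] S₂ a i j :=
  { IsLocalization.Away.awayToAwayRight (a i) (a j) with
    commutes' := fun r => IsLocalization.Away.awayToAwayRight_eq (a i) (a j) r }

/-- Restriction to an overlap, from the second chart. -/
def right (i j : ι) : S a j →ₐ[R] S₂ a i j :=
  { IsLocalization.Away.awayToAwayLeft (a j) (a i) with
    commutes' := fun r => IsLocalization.Away.awayToAwayLeft_eq (a j) (a i) r }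

/-- The ideal of the `n`-th neighbourhood in an `R`-algebra. -/
abbrev J (n : ℕ) (T : Type u) [CommRing T] [Algebra R T] : Ideal T :=
  Ideal.span {algebraMap R T (f ^ (n + 1))}

theorem mem_J {n : ℕ} {T : Type u} [CommRing T] [Algebra R T] {x : T} :
    x ∈ J f n T ↔ ∃ y, x = algebraMap R T (f ^ (n + 1)) * y :=
  Ideal.mem_span_singleton'.trans ⟨fun ⟨y, h⟩ => ⟨y, by rw [← h, mul_comm]⟩,
    fun ⟨y, h⟩ => ⟨y, by rw [h, mul_comm]⟩⟩

theorem J_le_comap {n : ℕ} {T T' : Type u} [CommRing T] [Algebra R T] [CommRing T'] [Algebra R T']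
    (g : T →ₐ[R] T') : J f n T ≤ (J f n T').comap g :=
  Ideal.span_le.mpr (Set.singleton_subset_iff.mpr (by
    change g (algebraMap R T (f ^ (n + 1))) ∈ J f n T'
    rw [g.commutes]
    exact Ideal.subset_span rfl))

theorem J_succ_le {n : ℕ} (T : Type u) [CommRing T] [Algebra R T] : J f (n + 1) T ≤ J f n T :=
  Ideal.span_le.mpr (Set.singleton_subset_iff.mpr ((mem_J f).mpr
    ⟨algebraMap R T f, by rw [← map_mul, ← pow_succ]⟩))

/-- The functions on a chart of the `n`-th neighbourhood. -/
abbrev Sn (n : ℕ) (i : ι) : Type u := S a i ⧸ J f n (S a i)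

/-- The functions on an overlap of the `n`-th neighbourhood. -/
abbrev Sn₂ (n : ℕ) (i j : ι) : Type u := S₂ a i j ⧸ J f n (S₂ a i j)

/-- Restriction to an overlap of the `n`-th neighbourhood, from the first chart. -/
def leftN (n : ℕ) (i j : ι) : Sn f a n i →ₐ[R] Sn₂ f a n i j :=
  Ideal.quotientMapₐ _ (left a i j) (J_le_comap f _)

/-- Restriction to an overlap of the `n`-th neighbourhood, from the second chart. -/
def rightN (n : ℕ) (i j : ι) : Sn f a n j →ₐ[R] Sn₂ f a n i j :=
  Ideal.quotientMapₐ _ (right a i j) (J_le_comap f _)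

/-- Restriction to the previous neighbourhood. -/
def tr (n : ℕ) (i : ι) : Sn f a (n + 1) i →ₐ[R] Sn f a n i :=
  Ideal.Quotient.factorₐ R (J_succ_le f (S a i))

/-- The functions on the trace of the charts on `V(f)`. -/
def lvl : Subalgebra R (∀ i, Sn f a 0 i) where
  carrier := {x | ∀ i j, leftN f a 0 i j (x i) = rightN f a 0 i j (x j)}
  mul_mem' := fun {x y} hx hy i j => by simp only [Pi.mul_apply, map_mul, hx i j, hy i j]
  add_mem' := fun {x y} hx hy i j => by simp only [Pi.add_apply, map_add, hx i j, hy i j]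
  algebraMap_mem' := fun r i j => by simp only [Pi.algebraMap_apply, AlgHom.commutes]

/-- The formal functions. -/
def Fun : Subalgebra R (∀ n i, Sn f a n i) where
  carrier := {x | (∀ n i j, leftN f a n i j (x n i) = rightN f a n i j (x n j)) ∧
    ∀ n i, tr f a n i (x (n + 1) i) = x n i}
  mul_mem' := fun {x y} hx hy => ⟨fun n i j => by simp only [Pi.mul_apply, map_mul, hx.1, hy.1],
    fun n i => by simp only [Pi.mul_apply, map_mul, hx.2, hy.2]⟩
  add_mem' := fun {x y} hx hy => ⟨fun n i j => by simp only [Pi.add_apply, map_add, hx.1, hy.1],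
    fun n i => by simp only [Pi.add_apply, map_add, hx.2, hy.2]⟩
  algebraMap_mem' := fun r => ⟨fun n i j => by simp only [Pi.algebraMap_apply, AlgHom.commutes],
    fun n i => by simp only [Pi.algebraMap_apply, AlgHom.commutes]⟩

/-- The value on `V(f)`. -/
def π₀ : Fun f a →ₐ[R] lvl f a where
  toFun x := ⟨x.1 0, x.2.1 0⟩
  map_one' := rfl
  map_mul' _ _ := rfl
  map_zero' := rfl
  map_add' _ _ := rfl
  commutes' _ := rfl

variable {f a}

theorem val_smul (r : R) (x : Fun f a) (n : ℕ) (i : ι) : (r • x).1 n i = r • x.1 n i := rfl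

theorem eq_zero_of_forall_pow (x : Fun f a) (h : ∀ N : ℕ, ∃ y, x = f ^ N • y) : x = 0 := by
  refine Subtype.ext (funext fun n => funext fun i => ?_)
  obtain ⟨y, rfl⟩ := h (n + 1)
  change f ^ (n + 1) • y.1 n i = 0
  obtain ⟨s, hs⟩ := Ideal.Quotient.mk_surjective (y.1 n i)
  rw [← hs, Algebra.smul_def, ← Ideal.Quotient.mk_algebraMap, ← map_mul,
    Ideal.Quotient.eq_zero_iff_mem]
  exact (mem_J f).mpr ⟨s, rfl⟩

section Regular

variable (hreg : ∀ x : R, ∀ i, f * x = 0 → ∃ l : ℕ, a i ^ l * x = 0)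
include hreg

theorem regular_chart (i : ι) (T : Type u) [CommRing T] [Algebra R T] [IsLocalization.Away (a i) T]
    (y : T) (h : algebraMap R T f * y = 0) : y = 0 := by
  obtain ⟨k, r, hr⟩ := IsLocalization.Away.surj (a i) y
  have h1 : algebraMap R T (f * r) = 0 := by rw [map_mul, ← hr, ← mul_assoc, h, zero_mul]
  obtain ⟨⟨_, l, rfl⟩, hl⟩ := (IsLocalization.map_eq_zero_iff (Submonoid.powers (a i)) T _).mp h1
  obtain ⟨l', hl'⟩ := hreg (a i ^ l * r) i (by rw [← hl]; ring)
  have h2 : algebraMap R T (a i) ^ (l' + l) * (y * algebraMap R T (a i) ^ k) = 0 := by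
    rw [hr, ← map_pow, ← map_mul, pow_add, mul_assoc, hl', map_zero]
  exact ((((IsLocalization.Away.algebraMap_isUnit (S := T) (a i)).pow k).mul_left_eq_zero).mp
    (((IsLocalization.Away.algebraMap_isUnit (S := T) (a i)).pow (l' + l)).mul_right_eq_zero.mp h2))

theorem regular_overlap (i j : ι) (y : S₂ a i j) (h : algebraMap R (S₂ a i j) f * y = 0) : y = 0 := by
  obtain ⟨k, r, hr⟩ := IsLocalization.Away.surj (a i * a j) y
  have h1 : algebraMap R (S₂ a i j) (f * r) = 0 := by rw [map_mul, ← hr, ← mul_assoc, h, zero_mul]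
  obtain ⟨⟨_, l, rfl⟩, hl⟩ :=
    (IsLocalization.map_eq_zero_iff (Submonoid.powers (a i * a j)) (S₂ a i j) _).mp h1
  obtain ⟨l', hl'⟩ := hreg ((a i * a j) ^ l * r) i (by rw [← hl]; ring)
  have h2 : algebraMap R (S₂ a i j) (a i * a j) ^ (l' + l) *
      (y * algebraMap R (S₂ a i j) (a i * a j) ^ k) = 0 := by
    rw [hr, ← map_pow, ← map_mul, show (a i * a j) ^ (l' + l) * r =
      a j ^ l' * (a i ^ l' * ((a i * a j) ^ l * r)) by ring, hl', mul_zero, map_zero]
  exact ((((IsLocalization.Away.algebraMap_isUnit (S := S₂ a i j) (a i * a j)).pow k).mul_left_eq_zero).mp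
    (((IsLocalization.Away.algebraMap_isUnit (S := S₂ a i j) (a i * a j)).pow
      (l' + l)).mul_right_eq_zero.mp h2))

/-- A formal function vanishing on `V(f)` is divisible by `f`. -/
theorem exists_div (x : Fun f a) (hx : π₀ f a x = 0) : ∃ y : Fun f a, x = f • y := by
  have h0 : ∀ i, x.1 0 i = 0 := fun i => congrFun (congrArg Subtype.val hx) i
  choose s hs using fun n i => Ideal.Quotient.mk_surjective (x.1 n i)
  have hsr : ∀ n i, s (n + 1) i - s n i ∈ J f n (S a i) := fun n i => by
    rw [← Ideal.Quotient.eq, hs n i, ← x.2.2 n i, ← hs (n + 1) i]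
    rfl
  have hdiv : ∀ n i, ∃ c, s n i = algebraMap R (S a i) f * c := by
    intro n i
    induction n with
    | zero =>
      obtain ⟨c, hc⟩ := (mem_J f).mp (Ideal.Quotient.eq_zero_iff_mem.mp ((hs 0 i).trans (h0 i)))
      exact ⟨c, by rw [hc, zero_add, pow_one]⟩
    | succ n ih =>
      obtain ⟨c, hc⟩ := ih
      obtain ⟨d, hd⟩ := (mem_J f).mp (hsr n i)
      exact ⟨algebraMap R (S a i) (f ^ n) * d + c, by
        rw [sub_eq_iff_eq_add.mp hd, hc, map_pow, map_pow, pow_succ]; ring⟩
  choose c hc using hdiv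
  refine ⟨⟨fun n i => Ideal.Quotient.mk _ (c (n + 1) i), fun n i j => ?_, fun n i => ?_⟩, ?_⟩
  · have h := x.2.1 (n + 1) i j
    rw [← hs (n + 1) i, ← hs (n + 1) j] at h
    change Ideal.Quotient.mk _ (left a i j (s (n + 1) i)) =
      Ideal.Quotient.mk _ (right a i j (s (n + 1) j)) at h
    obtain ⟨d, hd⟩ := (mem_J f).mp (Ideal.Quotient.eq.mp h)
    change Ideal.Quotient.mk _ (left a i j (c (n + 1) i)) =
      Ideal.Quotient.mk _ (right a i j (c (n + 1) j))
    rw [hc (n + 1) i, hc (n + 1) j, map_mul, map_mul, AlgHom.commutes, AlgHom.commutes] at hd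
    refine Ideal.Quotient.eq.mpr ((mem_J f).mpr ⟨d, ?_⟩)
    refine sub_eq_zero.mp (regular_overlap hreg i j _ ?_)
    rw [mul_sub, mul_sub, hd, map_pow, map_pow]
    ring
  · obtain ⟨d, hd⟩ := (mem_J f).mp (hsr (n + 1) i)
    rw [hc (n + 1 + 1) i, hc (n + 1) i] at hd
    change Ideal.Quotient.mk _ (c (n + 1 + 1) i) = Ideal.Quotient.mk _ (c (n + 1) i)
    refine Ideal.Quotient.eq.mpr ((mem_J f).mpr ⟨d, ?_⟩)
    refine sub_eq_zero.mp (regular_chart hreg i (S a i) _ ?_)
    rw [mul_sub, mul_sub, hd, map_pow, map_pow]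
    ring
  · refine Subtype.ext (funext fun n => funext fun i => ?_)
    change x.1 n i = f • Ideal.Quotient.mk _ (c (n + 1) i)
    rw [Algebra.smul_def, ← Ideal.Quotient.mk_algebraMap, ← map_mul, ← hc (n + 1) i, ← hs n i]
    exact (Ideal.Quotient.eq.mpr (hsr n i)).symm

/-- Formal functions form a finite module. -/
theorem finite_fun [IsNoetherianRing R] [IsAdicComplete (Ideal.span {f}) R]
    [Module.Finite R (lvl f a)] : Module.Finite R (Fun f a) := by
  let p : Fun f a →ₗ[R] lvl f a := (π₀ f a).toLinearMap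
  obtain ⟨n, v, hv⟩ := Submodule.fg_iff_exists_fin_generating_family.mp
    (IsNoetherian.noetherian (LinearMap.range p))
  choose w hw using fun t => show v t ∈ LinearMap.range p from
    hv ▸ Submodule.subset_span (Set.mem_range_self t)
  have hmem : ∀ (N : ℕ) (y : Fun f a),
      y ∈ (Ideal.span {f}) ^ N • (⊤ : Submodule R (Fun f a)) → ∃ z, y = f ^ N • z := fun N y hy => by
    rw [Ideal.span_singleton_pow, Submodule.ideal_span_singleton_smul] at hy
    obtain ⟨z, -, hz⟩ := hy
    exact ⟨z, hz.symm⟩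
  have : IsHausdorff (Ideal.span {f}) (Fun f a) := ⟨fun x hx => eq_zero_of_forall_pow x fun N =>
    hmem N x (SModEq.zero.mp (hx N))⟩
  let g : (Fin n → R) →ₗ[R] Fun f a := Fintype.linearCombination R w
  have : IsPrecomplete (Ideal.span {f}) (Fin n → R) := Lib.Adic.Complete.isPrecomplete_pi (Fin n)
  refine Module.Finite.of_surjective g (surjective_of_mkQ_comp_surjective (I := Ideal.span {f}) ?_)
  intro q
  obtain ⟨x, rfl⟩ := Submodule.mkQ_surjective _ q
  have hx : p x ∈ Submodule.span R (Set.range v) := hv.symm ▸ LinearMap.mem_range_self p x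
  obtain ⟨r, hr⟩ := (Submodule.mem_span_range_iff_exists_fun R).mp hx
  obtain ⟨y, hy⟩ := exists_div hreg (x - g r) (by
    change p (x - g r) = 0
    rw [map_sub, Fintype.linearCombination_apply, map_sum, ← hr, sub_eq_zero]
    exact Finset.sum_congr rfl fun t _ => by rw [map_smul, hw t])
  refine ⟨r, ((Submodule.Quotient.eq _).mpr ?_).symm⟩
  rw [hy]
  exact Submodule.smul_mem_smul (Ideal.mem_span_singleton_self f) trivial

/-- Near `V(f)` a formal function is a quotient of functions, in a unique way. -/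
theorem exists_quotient [IsNoetherianRing R] [IsAdicComplete (Ideal.span {f}) R] [Finite ι]
    [Module.Finite R (lvl f a)] (e : Fun f a) {x : PrimeSpectrum R} (hx : x ∈ formalSet f a) :
    ∃ s c : R, s ∉ x.asIdeal ∧ algebraMap R (Fun f a) c = s • e ∧
      ∀ r : R, algebraMap R (Fun f a) r = 0 → s * r = 0 := by
  classical
  obtain ⟨hfx, i, hi⟩ := hx
  have := finite_fun hreg (f := f) (a := a)
  have := Fintype.ofFinite ι
  let M := Fun f a
  let P := LinearMap.range (Algebra.linearMap R M)
  -- modulo `f` every formal function is, after multiplication by a power of `a i`, a function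
  have hq : ∀ z : M, ∃ l : ℕ, ∃ r : R, ∃ y : M, a i ^ l • z = algebraMap R M r + f • y := by
    intro z
    obtain ⟨y, hy⟩ := Ideal.Quotient.mk_surjective (z.1 0 i)
    obtain ⟨l, r, hr⟩ := IsLocalization.Away.surj (a i) y
    let w : M := a i ^ l • z - algebraMap R M r
    have hwi : w.1 0 i = 0 := by
      change a i ^ l • z.1 0 i - algebraMap R (Sn f a 0 i) r = 0
      rw [← hy, Algebra.smul_def, ← Ideal.Quotient.mk_algebraMap, ← Ideal.Quotient.mk_algebraMap,
        ← map_mul, ← hr, map_pow, mul_comm y, sub_self]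
    have hwj : ∀ j, ∃ k : ℕ, a i ^ k • w.1 0 j = 0 := by
      intro j
      have h := w.2.1 0 i j
      rw [hwi, map_zero] at h
      obtain ⟨v, hv⟩ := Ideal.Quotient.mk_surjective (w.1 0 j)
      rw [← hv] at h
      change 0 = Ideal.Quotient.mk _ (right a i j v) at h
      obtain ⟨d, hd⟩ := (mem_J f).mp (Ideal.Quotient.eq_zero_iff_mem.mp h.symm)
      obtain ⟨k, rv, hrv⟩ := IsLocalization.Away.surj (a j) v
      obtain ⟨k', rd, hrd⟩ := IsLocalization.Away.surj (a i * a j) d
      have h1 : algebraMap R (S₂ a i j) (rv * (a i * a j) ^ k' - f * (a j ^ k * rd)) = 0 := by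
        rw [zero_add, pow_one] at hd
        have h2 := congrArg (right a i j) hrv
        simp only [map_mul, map_pow, AlgHom.commutes] at h2
        simp only [map_sub, map_mul, map_pow, ← h2, ← hrd, hd]
        ring
      obtain ⟨⟨_, t, rfl⟩, ht⟩ :=
        (IsLocalization.map_eq_zero_iff (Submonoid.powers (a i * a j)) (S₂ a i j) _).mp h1
      refine ⟨t + k', ?_⟩
      rw [← hv, Algebra.smul_def, ← Ideal.Quotient.mk_algebraMap, ← map_mul]
      refine Ideal.Quotient.eq_zero_iff_mem.mpr
        ((Ideal.unit_mul_mem_iff_mem _ ((IsLocalization.Away.algebraMap_isUnit (S := S a j) (a j)).pow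
          (k + (t + k')))).mp ((mem_J f).mpr
            ⟨algebraMap R _ ((a i * a j) ^ t * (a j ^ k * rd)), ?_⟩))
      have h3 : algebraMap R (S a j) ((a i * a j) ^ t * (rv * (a i * a j) ^ k')) =
          algebraMap R (S a j) ((a i * a j) ^ t * (f * (a j ^ k * rd))) := by
        rw [← sub_eq_zero, ← map_sub, ← mul_sub]
        exact (congrArg _ ht).trans (map_zero _)
      simp only [map_mul, map_pow, ← hrv, zero_add, pow_one] at h3 ⊢
      simp only [mul_pow, pow_add] at h3 ⊢
      linear_combination h3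
    choose k hk using hwj
    obtain ⟨y', hy'⟩ := exists_div hreg (a i ^ Finset.univ.sup k • w) (Subtype.ext (funext fun j => by
      change a i ^ Finset.univ.sup k • w.1 0 j = 0
      rw [← Nat.sub_add_cancel (Finset.le_sup (f := k) (Finset.mem_univ j)), pow_add, mul_smul, hk,
        smul_zero]))
    refine ⟨Finset.univ.sup k + l, a i ^ Finset.univ.sup k * r, y', ?_⟩
    rw [← hy', pow_add, mul_smul, map_mul, ← Algebra.smul_def, smul_sub, add_sub_cancel]
  -- hence the functions fill up all formal functions near `x`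
  obtain ⟨n, g, hg⟩ := Module.Finite.exists_fin (R := R) (M := M)
  choose l r y hlry using fun t => hq (g t)
  let L := Finset.univ.sup l
  have hrange : LinearMap.range (a i ^ L • (LinearMap.id : M ⧸ P →ₗ[R] M ⧸ P)) ≤
      Ideal.span {f} • (⊤ : Submodule R (M ⧸ P)) := by
    rintro _ ⟨q, rfl⟩
    obtain ⟨z, rfl⟩ := P.mkQ_surjective q
    have hz : z ∈ Submodule.span R (Set.range g) := hg ▸ trivial
    obtain ⟨coef, rfl⟩ := (Submodule.mem_span_range_iff_exists_fun R).mp hz
    simp only [LinearMap.smul_apply, LinearMap.id_apply, map_sum, map_smul]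
    refine Submodule.sum_mem _ fun t _ => ?_
    refine Submodule.smul_mem _ _ ?_
    rw [show L = (L - l t) + l t from
      (Nat.sub_add_cancel (Finset.le_sup (f := l) (Finset.mem_univ t))).symm, pow_add, mul_smul,
      ← map_smul P.mkQ (a i ^ l t), hlry, map_add, map_smul]
    rw [show P.mkQ (algebraMap R M (r t)) = 0 from
      (Submodule.Quotient.mk_eq_zero _).mpr ⟨r t, rfl⟩, zero_add]
    exact Submodule.smul_mem _ _ (Submodule.smul_mem_smul (Ideal.mem_span_singleton_self f) trivial)
  obtain ⟨q, hqm, hqc, hq0⟩ :=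
    LinearMap.exists_monic_and_natDegree_eq_and_coeff_mem_pow_and_aeval_eq_zero R
      (a i ^ L • (LinearMap.id : M ⧸ P →ₗ[R] M ⧸ P)) (Ideal.span {f}) hrange |>.imp
        fun q h => (⟨h.1, h.2.2⟩ : q.Monic ∧ _)
  obtain ⟨hqc, hq0⟩ := (⟨hqc, hq0⟩ : _ ∧ _)
  let s₁ := q.eval (a i ^ L)
  have hs₁ : s₁ ∉ x.asIdeal := by
    intro hmem
    have hle : Ideal.span {f} ≤ x.asIdeal := (Ideal.span_singleton_le_iff_mem _).mpr hfx
    have hmap : q.map (Ideal.Quotient.mk x.asIdeal) = Polynomial.X ^ q.natDegree := by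
      ext d
      rw [Polynomial.coeff_map, Polynomial.coeff_X_pow]
      split_ifs with hd
      · rw [hd, hqm.coeff_natDegree, map_one]
      · rw [Ideal.Quotient.eq_zero_iff_mem]
        rcases lt_or_gt_of_ne hd with hlt | hgt
        · exact hle (Ideal.pow_le_self (Nat.sub_ne_zero_of_lt hlt) (hqc d))
        · rw [Polynomial.coeff_eq_zero_of_natDegree_lt hgt]; exact zero_mem _
    have h := Ideal.Quotient.eq_zero_iff_mem.mpr hmem
    rw [show s₁ = Polynomial.eval (a i ^ L) q from rfl, ← Polynomial.eval₂_at_apply,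
      ← Polynomial.eval_map, hmap, Polynomial.eval_pow, Polynomial.eval_X, map_pow, ← pow_mul] at h
    exact hi (x.isPrime.mem_of_pow_mem _
      (Ideal.Quotient.eq_zero_iff_mem.mp (by rw [map_pow]; exact h)))
  have hkill : ∀ z : M ⧸ P, s₁ • z = 0 := fun z => by
    have := congrArg (fun φ => φ z) hq0
    rw [show (a i ^ L • (LinearMap.id : M ⧸ P →ₗ[R] M ⧸ P)) =
      algebraMap R (Module.End R (M ⧸ P)) (a i ^ L) from rfl,
      Polynomial.aeval_algebraMap_apply_eq_algebraMap_eval] at this
    exact this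
  -- functions vanishing formally vanish near `x`
  have hker : ∀ r : R, algebraMap R M r = 0 → ∃ t ∉ x.asIdeal, t * r = 0 := by
    intro r hr
    let Rx := Localization.AtPrime x.asIdeal
    have : IsNoetherianRing Rx := IsLocalization.isNoetherianRing x.asIdeal.primeCompl _ inferInstance
    have hu : IsUnit (algebraMap R Rx (a i)) := IsLocalization.map_units Rx (⟨a i, hi⟩ : x.asIdeal.primeCompl)
    let ψ : S a i →+* Rx := IsLocalization.Away.lift (a i) hu
    have h0 : algebraMap R Rx r ∈ ⨅ n : ℕ, (Ideal.span {algebraMap R Rx f}) ^ n := by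
      refine Ideal.mem_iInf.mpr fun n => ?_
      have h := congrFun (congrFun (congrArg Subtype.val hr) n) i
      change Ideal.Quotient.mk _ (algebraMap R (S a i) r) = 0 at h
      obtain ⟨d, hd⟩ := (mem_J f).mp (Ideal.Quotient.eq_zero_iff_mem.mp h)
      have := congrArg ψ hd
      simp only [map_mul, ψ, IsLocalization.Away.lift_eq] at this
      rw [this, map_pow, Ideal.span_singleton_pow, pow_succ, mul_assoc]
      exact Ideal.mul_mem_right _ _ (Ideal.subset_span rfl)
    rw [Ideal.iInf_pow_eq_bot_of_isLocalRing] at h0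
    · obtain ⟨⟨t, ht⟩, ht0⟩ := (IsLocalization.map_eq_zero_iff x.asIdeal.primeCompl Rx r).mp h0
      exact ⟨t, ht, ht0⟩
    · intro htop
      have hmem : algebraMap R Rx f ∈ IsLocalRing.maximalIdeal Rx :=
        (IsLocalization.AtPrime.to_map_mem_maximal_iff Rx x.asIdeal f).mpr hfx
      exact Ideal.IsPrime.ne_top' (top_le_iff.mp (htop ▸ (Ideal.span_singleton_le_iff_mem _).mpr hmem))
  obtain ⟨G, hG⟩ := IsNoetherian.noetherian (LinearMap.ker (Algebra.linearMap R M))
  choose t ht ht0 using fun w : G => hker w.1 (by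
    have : (w : R) ∈ LinearMap.ker (Algebra.linearMap R M) := hG ▸ Submodule.subset_span w.2
    exact this)
  let s₂ := ∏ w : G, t w
  have hs₂ : s₂ ∉ x.asIdeal := fun h => by
    obtain ⟨w, -, hw⟩ := x.isPrime.prod_mem_iff.mp h
    exact ht w hw
  have hs20 : ∀ r : R, algebraMap R M r = 0 → s₂ * r = 0 := fun r hr => by
    have hr' : r ∈ Submodule.span R (G : Set R) := hG.symm ▸ (hr : r ∈ LinearMap.ker (Algebra.linearMap R M))
    clear hr
    induction hr' using Submodule.span_induction with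
    | mem w hw =>
      obtain ⟨d, hd⟩ := Finset.dvd_prod_of_mem t (Finset.mem_univ (⟨w, hw⟩ : G))
      rw [show s₂ = t ⟨w, hw⟩ * d from hd, mul_right_comm, ht0 ⟨w, hw⟩, zero_mul]
    | zero => exact mul_zero _
    | add p q _ _ hp hq => rw [mul_add, hp, hq, add_zero]
    | smul c p _ hp => rw [smul_eq_mul, mul_left_comm, hp, mul_zero]
  obtain ⟨c, hc⟩ : s₁ • e ∈ P :=
    (Submodule.Quotient.mk_eq_zero P).mp (hkill (Submodule.Quotient.mk e))
  refine ⟨s₁ * s₂, c * s₂, fun h => ?_, ?_, fun r hr => ?_⟩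
  · exact (x.isPrime.mem_or_mem h).elim hs₁ hs₂
  · rw [map_mul, mul_comm s₁, mul_smul, ← hc, Algebra.linearMap_apply, Algebra.smul_def, mul_comm]
  · rw [mul_assoc, hs20 r hr, mul_zero]

end Regular

/-- A clopen of the trace on `V(f)` of the charts extends to a neighbourhood. -/
theorem exists_nbhd_clopen [IsNoetherianRing R] [IsAdicComplete (Ideal.span {f}) R] [Finite ι]
    (hreg : ∀ x : R, ∀ i, f * x = 0 → ∃ l : ℕ, a i ^ l * x = 0) (hfin : Module.Finite R (lvl f a))
    (C : Set (PrimeSpectrum R))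
    (hC : IsClopen ((↑) ⁻¹' C : Set (formalSet f a))) :
    ∃ O D : Set (PrimeSpectrum R), IsOpen O ∧ formalSet f a ⊆ O ∧
      IsClopen ((↑) ⁻¹' D : Set O) ∧ ∀ x ∈ formalSet f a, x ∈ D ↔ x ∈ C := by
  classical
  let q : ∀ i, R →+* Sn f a 0 i := fun i => algebraMap R _
  have hmem : ∀ i (P : PrimeSpectrum (Sn f a 0 i)), comap (q i) P ∈ formalSet f a := by
    intro i P
    refine ⟨?_, i, fun h => ?_⟩
    · change q i f ∈ P.asIdeal
      have : q i f = 0 := by
        rw [show q i f = Ideal.Quotient.mk _ (algebraMap R (S a i) f) from rfl,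
          Ideal.Quotient.eq_zero_iff_mem]
        exact Ideal.subset_span (by rw [zero_add, pow_one]; rfl)
      rw [this]
      exact zero_mem _
    · change q i (a i) ∈ P.asIdeal at h
      exact P.isPrime.ne_top (Ideal.eq_top_of_isUnit_mem _ h
        ((IsLocalization.Away.algebraMap_isUnit (S := S a i) (a i)).map (Ideal.Quotient.mk _)))
  have hCi : ∀ i, IsClopen (comap (q i) ⁻¹' C) := fun i => by
    have hcont : Continuous fun P => (⟨comap (q i) P, hmem i P⟩ : formalSet f a) :=
      (PrimeSpectrum.continuous_comap (q i)).subtype_mk _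
    exact hC.preimage hcont
  choose ε hε hεC using fun i => PrimeSpectrum.isClopen_iff.mp (hCi i)
  have hεC' : ∀ i (P : PrimeSpectrum (Sn f a 0 i)), comap (q i) P ∈ C ↔ ε i ∉ P.asIdeal := fun i P =>
    Set.ext_iff.mp (hεC i) P
  have hover : ∀ i j, leftN f a 0 i j (ε i) = rightN f a 0 i j (ε j) := by
    intro i j
    refine basicOpen_injOn_isIdempotentElem ((hε i).map _) ((hε j).map _) ?_
    ext P
    have hl := hεC' i (comap (leftN f a 0 i j).toRingHom P)
    have hr := hεC' j (comap (rightN f a 0 i j).toRingHom P)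
    rw [← PrimeSpectrum.comap_comp_apply] at hl hr
    have e1 : (leftN f a 0 i j).toRingHom.comp (q i) = algebraMap R _ := (leftN f a 0 i j).comp_algebraMap
    have e2 : (rightN f a 0 i j).toRingHom.comp (q j) = algebraMap R _ := (rightN f a 0 i j).comp_algebraMap
    rw [e1] at hl
    rw [e2] at hr
    exact hl.symm.trans hr
  have hnil : ∀ n i (z : S a i), z ∈ J f 0 (S a i) →
      IsNilpotent (Ideal.Quotient.mk (J f n (S a i)) z) := fun n i z hz => by
    obtain ⟨d, rfl⟩ := (mem_J f).mp hz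
    refine ⟨n + 1, ?_⟩
    rw [← map_pow, Ideal.Quotient.eq_zero_iff_mem, mul_pow, zero_add, pow_one, ← map_pow]
    exact Ideal.mul_mem_right _ _ (Ideal.subset_span rfl)
  let red : ∀ n i, Sn f a n i →+* Sn f a 0 i := fun n i =>
    Ideal.Quotient.factor (by
      induction n with
      | zero => exact le_rfl
      | succ n ih => exact (J_succ_le f _).trans ih)
  have hker : ∀ n i, ∀ z ∈ RingHom.ker (red n i), IsNilpotent z := by
    intro n i z hz
    obtain ⟨z, rfl⟩ := Ideal.Quotient.mk_surjective z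
    exact hnil n i z (Ideal.Quotient.eq_zero_iff_mem.mp hz)
  choose E hE hEu using fun n i =>
    existsUnique_isIdempotentElem_eq_of_ker_isNilpotent (red n i) (hker n i) (ε i)
      ⟨(Ideal.Quotient.mk _ (Ideal.Quotient.mk_surjective (ε i)).choose), by
        exact (Ideal.Quotient.mk_surjective (ε i)).choose_spec⟩ (hε i)
  let e : Fun f a := ⟨E, fun n i j => by
    obtain ⟨s, hs⟩ := Ideal.Quotient.mk_surjective (E n i)
    obtain ⟨t, ht⟩ := Ideal.Quotient.mk_surjective (E n j)
    refine eq_of_isNilpotent_sub_of_isIdempotentElem ((hE n i).1.map _) ((hE n j).1.map _) ?_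
    rw [← hs, ← ht]
    have h := hover i j
    rw [← (hE n i).2, ← (hE n j).2, ← hs, ← ht] at h
    change Ideal.Quotient.mk _ (left a i j s) = Ideal.Quotient.mk _ (right a i j t) at h
    obtain ⟨d, hd⟩ := (mem_J f).mp (Ideal.Quotient.eq.mp h)
    change IsNilpotent (Ideal.Quotient.mk _ (left a i j s) - Ideal.Quotient.mk _ (right a i j t))
    refine ⟨n + 1, ?_⟩
    rw [← map_sub, ← map_pow, Ideal.Quotient.eq_zero_iff_mem, hd, mul_pow, zero_add, pow_one, ← map_pow]
    exact Ideal.mul_mem_right _ _ (Ideal.subset_span rfl),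
    fun n i => hEu n i _ ⟨(hE (n + 1) i).1.map _, by
      obtain ⟨s, hs⟩ := Ideal.Quotient.mk_surjective (E (n + 1) i)
      rw [← (hE (n + 1) i).2, ← hs]
      rfl⟩⟩
  have he : IsIdempotentElem e := Subtype.ext (funext fun n => funext fun i => (hE n i).1)
  let φ := algebraMap R (Fun f a)
  let G : R → Prop := fun s => ∀ r, φ r = 0 → s * r = 0
  let O : Set (PrimeSpectrum R) :=
    {x | ∃ s c, s ∉ x.asIdeal ∧ φ c = s • e ∧ G s}
  let D : Set (PrimeSpectrum R) :=
    {x | ∃ s c, s ∉ x.asIdeal ∧ φ c = s • e ∧ G s ∧ c ∉ x.asIdeal}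
  have hsub : formalSet f a ⊆ O := fun x hx => by
    obtain ⟨s, c, h1, h2, h3⟩ := exists_quotient hreg e hx
    exact ⟨s, c, h1, h2, h3⟩
  have key : ∀ (x : PrimeSpectrum R) s c, s ∉ x.asIdeal → φ c = s • e → G s →
      ((x ∈ D ↔ c ∉ x.asIdeal) ∧ (c ∈ x.asIdeal ∨ c - s ∈ x.asIdeal)) := by
    intro x s c hs hc hG
    refine ⟨⟨?_, fun h => ⟨s, c, hs, hc, hG, h⟩⟩, ?_⟩
    · rintro ⟨s', c', hs', hc', hG', hcx⟩ hmem
      have h0 : s * (s' * c - s * c') = 0 := hG _ (by
        rw [map_sub, map_mul, map_mul, hc, hc', Algebra.smul_def, Algebra.smul_def]; ring)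
      have h1 : s' * c - s * c' ∈ x.asIdeal :=
        (x.isPrime.mem_or_mem (h0 ▸ zero_mem _)).resolve_left hs
      have h2 : s * c' ∈ x.asIdeal := by
        have := sub_mem (x.asIdeal.mul_mem_left s' hmem) h1
        rwa [sub_sub_cancel] at this
      exact (x.isPrime.mem_or_mem h2).elim hs hcx
    · have h0 : s * (c * (c - s)) = 0 := hG _ (by
        rw [map_mul, map_sub, hc, Algebra.smul_def]
        linear_combination (algebraMap R (Fun f a) s * algebraMap R (Fun f a) s) * he.eq)
      exact x.isPrime.mem_or_mem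
        ((x.isPrime.mem_or_mem (h0 ▸ zero_mem _)).resolve_left hs)
  refine ⟨O, D, ?_, hsub, ?_, fun x hx => ?_⟩
  · refine isOpen_iff_forall_mem_open.mpr fun x ⟨s, c, hs, hc, hG⟩ =>
      ⟨basicOpen s, fun y hy => ⟨s, c, hy, hc, hG⟩, isOpen_basicOpen, hs⟩
  · refine ⟨isOpen_compl_iff.mp (isOpen_iff_forall_mem_open.mpr fun x hx => ?_),
      isOpen_iff_forall_mem_open.mpr fun x hx => ?_⟩
    · obtain ⟨s, c, hs, hc, hG⟩ := x.2
      obtain ⟨hiff, hor⟩ := key x.1 s c hs hc hG
      have hcx : c ∈ x.1.asIdeal := by_contra fun h => hx (hiff.mpr h)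
      refine ⟨(Subtype.val : O → PrimeSpectrum R) ⁻¹' ((basicOpen s : Set (PrimeSpectrum R)) ∩ basicOpen (c - s)),
        fun y hy hyD => ?_, (isOpen_basicOpen.inter isOpen_basicOpen).preimage continuous_subtype_val,
        hs, fun h => hs (by
          have := sub_mem hcx h
          rwa [sub_sub_cancel] at this)⟩
      obtain ⟨hiff', hor'⟩ := key y.1 s c hy.1 hc hG
      exact hy.2 (hor'.resolve_left (hiff'.mp hyD))
    · obtain ⟨s, c, hs, hc, hG, hcx⟩ := hx
      exact ⟨(Subtype.val : O → PrimeSpectrum R) ⁻¹' ((basicOpen s : Set (PrimeSpectrum R)) ∩ basicOpen c),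
        fun y hy => ⟨s, c, hy.1, hc, hG, hy.2⟩,
        (isOpen_basicOpen.inter isOpen_basicOpen).preimage continuous_subtype_val, hs, hcx⟩
  · obtain ⟨s, c, hs, hc, hG⟩ := hsub hx
    rw [(key x s c hs hc hG).1]
    obtain ⟨hfx, i, hi⟩ := hx
    -- the point `x` of the chart `i`
    let k := x.asIdeal.ResidueField
    have hu : IsUnit (algebraMap R k (a i)) :=
      isUnit_iff_ne_zero.mpr fun h => hi (Ideal.algebraMap_residueField_eq_zero.mp h)
    let ψ₀ : S a i →+* k := IsLocalization.Away.lift (a i) hu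
    have hψ₀ : ∀ z ∈ J f 0 (S a i), ψ₀ z = 0 := fun z hz => by
      obtain ⟨d, rfl⟩ := (mem_J f).mp hz
      rw [map_mul, IsLocalization.Away.lift_eq, zero_add, pow_one,
        Ideal.algebraMap_residueField_eq_zero.mpr hfx, zero_mul]
    let ψ : Sn f a 0 i →+* k := Ideal.Quotient.lift _ ψ₀ hψ₀
    let P : PrimeSpectrum (Sn f a 0 i) := ⟨RingHom.ker ψ, RingHom.ker_isPrime ψ⟩
    have hψq : ∀ r, ψ (q i r) = algebraMap R k r := fun r => IsLocalization.Away.lift_eq (a i) hu r
    have hP : comap (q i) P = x := PrimeSpectrum.ext (Ideal.ext fun r => by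
      change ψ (q i r) = 0 ↔ r ∈ x.asIdeal
      rw [hψq]
      exact Ideal.algebraMap_residueField_eq_zero)
    have h1 : q i c = q i s * ε i := by
      have h := congrFun (congrFun (congrArg Subtype.val hc) 0) i
      change q i c = s • E 0 i at h
      rw [h, Algebra.smul_def, ← (hE 0 i).2]
      congr 1
      obtain ⟨z, hz⟩ := Ideal.Quotient.mk_surjective (E 0 i)
      rw [← hz]
      rfl
    have h2 : c ∈ x.asIdeal ↔ ε i ∈ P.asIdeal := by
      have hs' : algebraMap R k s ≠ 0 := fun h => hs (Ideal.algebraMap_residueField_eq_zero.mp h)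
      change _ ↔ ψ (ε i) = 0
      rw [← Ideal.algebraMap_residueField_eq_zero, ← hψq, h1, map_mul, hψq, mul_eq_zero,
        or_iff_right hs']
    rw [h2, ← hεC' i P, hP]

end

end Groth.Agent.H80.Clopen.Nbhd
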