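import Groth.Agent.H80.Clopen.Nbhd.Core
import Groth.Agent.H80.Clopen.Torsion.Numer
import Groth.Agent.Lib.LocalCoh.Local
import Groth.Agent.S1763

/-!
# Finitely many functions on a punctured `V(f)`
-/

set_option autoImplicit false
set_option linter.unusedSectionVars false

universe u

open IsLocalRing

namespace Groth.Agent.H80.Clopen.Nbhd

variable {A : Type u} [CommRing A] [IsNoetherianRing A] [IsLocalRing A]

/-- A power of the maximal ideal kills a finite local cohomology module. -/
theorem exists_pow_kill_H (M : Type u) [AddCommGroup M] [Module A M]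
    (h : Module.Finite A (LocCoh.H (maximalIdeal A) 1 M)) :
    ∃ N : ℕ, ∀ r ∈ maximalIdeal A ^ N, ∀ z : LocCoh.H (maximalIdeal A) 1 M, r • z = 0 := by
  classical
  obtain ⟨S, hS⟩ := h.fg_top
  choose n hn using fun z : S =>
    Lib.LocalCoh.isPowerTorsion_lc (maximalIdeal A) 1 (ModuleCat.of A M) z.1
  refine ⟨Finset.univ.sup n, fun r hr z => ?_⟩
  have hz : z ∈ Submodule.span A (S : Set (LocCoh.H (maximalIdeal A) 1 M)) := hS ▸ trivial
  induction hz using Submodule.span_induction with
  | mem w hw =>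
    exact hn ⟨w, hw⟩ r (Ideal.pow_le_pow_right (Finset.le_sup (Finset.mem_univ _)) hr)
  | zero => exact smul_zero _
  | add p q _ _ hp hq => rw [smul_add, hp, hq, add_zero]
  | smul c p _ hp => rw [smul_comm, hp, smul_zero]

variable {B : Type u} [CommRing B] [Algebra A B] [Module.Finite A B]
  {R : Type u} [CommRing R] [Algebra A R] [Algebra B R] [IsScalarTower A B R] [Module.Finite A R]
  {ι : Type} [Finite ι] (a : ι → A) (f : A)

/-- On each chart `R` is a direct summand of a free `B`-module. -/
def Split : Prop :=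
  ∀ i, ∃ (r : ℕ) (ψ : R →ₗ[B] (Fin r → B)) (v : Fin r → R) (k : ℕ),
    ∀ x : R, a i ^ k • x = ∑ t, ψ x t • v t

variable {a f}

theorem regular_of_split (hs : Split (B := B) (R := R) a)
    (hreg : ∀ (i : ι) (b : B), f • b = 0 → ∃ l : ℕ, a i ^ l • b = 0)
    (x : R) (i : ι) (hx : algebraMap A R f * x = 0) :
    ∃ l : ℕ, algebraMap A R (a i) ^ l * x = 0 := by
  classical
  obtain ⟨r, ψ, v, k, hk⟩ := hs i
  have h0 : ∀ t, ∃ l : ℕ, a i ^ l • ψ x t = 0 := fun t => hreg i _ (by
    rw [← Pi.smul_apply, ← ψ.map_smul_of_tower, Algebra.smul_def, hx, map_zero, Pi.zero_apply])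
  choose l hl using h0
  refine ⟨Finset.univ.sup l + k, ?_⟩
  rw [← map_pow, ← Algebra.smul_def, pow_add, mul_smul, hk, Finset.smul_sum]
  refine Finset.sum_eq_zero fun t _ => ?_
  rw [← smul_assoc, ← Nat.sub_add_cancel (Finset.le_sup (f := l) (Finset.mem_univ t)), pow_add,
    mul_smul, hl, smul_zero, zero_smul]

theorem mem_span_iff {T : Type u} [CommRing T] [Algebra A T] {x : T} :
    x ∈ Ideal.span {algebraMap A T f} ↔ ∃ y : T, x = f • y :=
  Ideal.mem_span_singleton'.trans ⟨fun ⟨y, h⟩ => ⟨y, by rw [← h, Algebra.smul_def, mul_comm]⟩,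
    fun ⟨y, h⟩ => ⟨y, by rw [h, Algebra.smul_def, mul_comm]⟩⟩

/-- The points of `V(f)` off the closed point which are associated to `R / f` are associated to
`B / f`. -/
theorem mem_associatedPrimes_of_split (hs : Split (B := B) (R := R) a)
    (hcov : ∀ p : Ideal A, p.IsPrime → f ∈ p → ¬ maximalIdeal A ≤ p → ∃ i, a i ∉ p)
    (p : Ideal A) (hp : p ∈ associatedPrimes A (R ⧸ Ideal.span {algebraMap A R f}))
    (hm : ¬ maximalIdeal A ≤ p) :
    p ∈ associatedPrimes A (B ⧸ Ideal.span {algebraMap A B f}) := by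
  classical
  obtain ⟨hP, q, hq0⟩ := isAssociatedPrime_iff.mp hp
  have hq : ∀ r : A, r ∈ p ↔ r • q = 0 := fun r => by
    rw [hq0, Submodule.mem_colon_singleton, Submodule.mem_bot]
  obtain ⟨x, rfl⟩ := Ideal.Quotient.mk_surjective q
  have hq' : ∀ r : A, r ∈ p ↔ r • x ∈ Ideal.span {algebraMap A R f} := fun r => by
    rw [hq r, ← Ideal.Quotient.mkₐ_eq_mk A, ← map_smul, Ideal.Quotient.mkₐ_eq_mk,
      Ideal.Quotient.eq_zero_iff_mem]
  have hfp : f ∈ p := (hq' f).mpr (mem_span_iff.mpr ⟨x, rfl⟩)
  obtain ⟨i, hi⟩ := hcov p hP hfp hm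
  obtain ⟨r, ψ, v, k, hk⟩ := hs i
  by_contra hcon
  have h0 : ∀ t, ∃ s ∉ p, s • ψ x t ∈ Ideal.span {algebraMap A B f} := by
    intro t
    by_contra hne
    push_neg at hne
    refine hcon (isAssociatedPrime_iff.mpr ⟨hP, Ideal.Quotient.mk _ (ψ x t), ?_⟩)
    ext r
    rw [Submodule.mem_colon_singleton, Submodule.mem_bot, ← Ideal.Quotient.mkₐ_eq_mk A,
      ← map_smul, Ideal.Quotient.mkₐ_eq_mk, Ideal.Quotient.eq_zero_iff_mem]
    refine ⟨fun hr => ?_, fun hr => by_contra fun hrp => hne r hrp hr⟩
    obtain ⟨y, hy⟩ := mem_span_iff.mp ((hq' r).mp hr)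
    exact mem_span_iff.mpr ⟨ψ y t, by
      rw [← Pi.smul_apply, ← ψ.map_smul_of_tower, hy, ψ.map_smul_of_tower, Pi.smul_apply]⟩
  choose s hs' hsm using h0
  have hmem : (∏ t, s t) * a i ^ k ∈ p := by
    refine (hq' _).mpr ?_
    rw [mul_smul, hk, Finset.smul_sum]
    refine Ideal.sum_mem _ fun t _ => ?_
    obtain ⟨d, hd⟩ := Finset.dvd_prod_of_mem s (Finset.mem_univ t)
    obtain ⟨y, hy⟩ := mem_span_iff.mp (hsm t)
    exact mem_span_iff.mpr ⟨d • (y • v t), by
      rw [hd, ← smul_assoc, mul_comm (s t), mul_smul, hy, smul_comm d f, smul_assoc, smul_assoc]⟩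
  rcases hP.mem_or_mem hmem with h | h
  · obtain ⟨t, -, ht⟩ := hP.prod_mem_iff.mp h
    exact hs' t ht
  · exact hi (hP.mem_of_pow_mem k h)

/-- The functions on the punctured `V(f)` of `R` form a finite module. -/
theorem finite_lvl [IsNoetherianRing R] (hs : Split (B := B) (R := R) a) (ha : ∀ i, a i ∈ maximalIdeal A)
    (hcov : ∀ p : Ideal A, p.IsPrime → f ∈ p → ¬ maximalIdeal A ≤ p → ∃ i, a i ∉ p)
    (hB : ∀ p ∈ associatedPrimes A (B ⧸ Ideal.span {algebraMap A B f}), ¬ maximalIdeal A ≤ p →
      Module.Finite A (LocCoh.H (maximalIdeal A) 1 (A ⧸ p))) :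
    Module.Finite R (lvl (algebraMap A R f) (fun i => algebraMap A R (a i))) := by
  classical
  let M := R ⧸ Ideal.span {algebraMap A R f}
  let f' := algebraMap A R f
  let a' : ι → R := fun i => algebraMap A R (a i)
  have hH : Module.Finite A (LocCoh.H (maximalIdeal A) 1 M) :=
    (S1763.result A (maximalIdeal A) M).mpr fun p hp hm =>
      hB p (mem_associatedPrimes_of_split hs hcov p hp hm) hm
  obtain ⟨N, hN⟩ := exists_pow_kill_H M hH
  obtain ⟨n, b, hb⟩ := Submodule.fg_iff_exists_fin_generating_family.mp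
    (IsNoetherian.noetherian (maximalIdeal A))
  have hbm : ∀ l, b l ∈ maximalIdeal A := fun l => hb ▸ Submodule.subset_span (Set.mem_range_self l)
  have := Fintype.ofFinite ι
  -- after multiplication by `b l ^ N` sections on the charts come from global ones
  let W := lvl f' a'
  have key : ∀ (x : W) (l : Fin n), ∃ z : R, b l ^ N • x = algebraMap R W z := by
    intro x l
    choose s hs0 using fun i => Ideal.Quotient.mk_surjective (x.1 i)
    choose k0 m0 hm0 using fun i => IsLocalization.Away.surj (a' i) (s i)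
    let k1 := Finset.univ.sup k0
    let m1 : ι → R := fun i => a' i ^ (k1 - k0 i) * m0 i
    have hm1 : ∀ i, s i * algebraMap R _ (a' i) ^ k1 = algebraMap R _ (m1 i) := fun i => by
      change _ = algebraMap R (S a' i) (a' i ^ (k1 - k0 i) * m0 i)
      rw [map_mul, ← hm0 i, map_pow, mul_left_comm, ← pow_add,
        Nat.sub_add_cancel (Finset.le_sup (Finset.mem_univ i))]
    clear_value m1
    -- agreement on overlaps
    have hagree : ∀ i j, ∃ t : ℕ, ∃ d : R,
        (a' i * a' j) ^ t * (a' j ^ k1 * m1 i - a' i ^ k1 * m1 j) = f' * d := by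
      intro i j
      have h := x.2 i j
      rw [← hs0 i, ← hs0 j] at h
      change Ideal.Quotient.mk _ (left a' i j (s i)) = Ideal.Quotient.mk _ (right a' i j (s j)) at h
      obtain ⟨d, hd⟩ := (mem_J f').mp (Ideal.Quotient.eq.mp h)
      obtain ⟨k', rd, hrd⟩ := IsLocalization.Away.surj (a' i * a' j) d
      have hi := congrArg (left a' i j) (hm1 i)
      have hj := congrArg (right a' i j) (hm1 j)
      simp only [map_mul, map_pow, AlgHom.commutes] at hi hj
      have h1 : algebraMap R (S₂ a' i j) ((a' i * a' j) ^ k' * (a' j ^ k1 * m1 i - a' i ^ k1 * m1 j)) =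
          algebraMap R (S₂ a' i j) (f' * ((a' i * a' j) ^ k1 * rd)) := by
        rw [zero_add, pow_one] at hd
        simp only [map_mul, map_sub, map_pow, ← hi, ← hj, ← hrd, mul_pow]
        linear_combination (algebraMap R (S₂ a' i j) (a' i) ^ (k' + k1) *
          algebraMap R (S₂ a' i j) (a' j) ^ (k' + k1)) * hd
      obtain ⟨⟨_, t, rfl⟩, ht⟩ :=
        (IsLocalization.eq_iff_exists (Submonoid.powers (a' i * a' j)) (S₂ a' i j)).mp h1
      exact ⟨t + k', (a' i * a' j) ^ t * ((a' i * a' j) ^ k1 * rd), by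
        rw [pow_add, mul_assoc, ht]; ring⟩
    choose t d hd using hagree
    let T := Finset.univ.sup fun ij : ι × ι => t ij.1 ij.2
    let k := k1 + T
    let m : ι → R := fun i => a' i ^ T * m1 i
    have hm : ∀ i j, ∃ d : R, a' j ^ k * m i - a' i ^ k * m j = f' * d := fun i j => by
      obtain ⟨u, hu⟩ := Nat.exists_eq_add_of_le
        (Finset.le_sup (f := fun ij : ι × ι => t ij.1 ij.2) (Finset.mem_univ (i, j)) : t i j ≤ T)
      refine ⟨(a' i * a' j) ^ u * d i j, ?_⟩
      have := hd i j
      have hu' : T = t i j + u := hu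
      clear_value T
      subst hu'
      simp only [m, k]
      linear_combination ((a' i * a' j) ^ u) * this
    have hrad : maximalIdeal A ≤ (Ideal.span (insert f (Set.range fun i => a i ^ k))).radical := by
      rw [Ideal.radical_eq_sInf]
      refine le_sInf fun P hP => ?_
      by_contra hmP
      obtain ⟨i, hi⟩ := hcov P hP.2 (hP.1 (Ideal.subset_span (Set.mem_insert _ _))) hmP
      exact hi (hP.2.mem_of_pow_mem k (hP.1 (Ideal.subset_span (Set.mem_insert_of_mem _ ⟨i, rfl⟩))))
    choose K0 hK0 using fun l => hrad (hbm l)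
    let K := Finset.univ.sup K0
    have hK : ∀ l, ∃ (c : ι → A) (e : A), b l ^ K = e * f + ∑ i, c i * a i ^ k := by
      intro l
      have h : b l ^ K ∈ Ideal.span (insert f (Set.range fun i => a i ^ k)) :=
        Ideal.pow_mem_of_pow_mem _ (hK0 l) (Finset.le_sup (Finset.mem_univ l))
      obtain ⟨e, z, hz, he⟩ := Ideal.mem_span_insert.mp h
      obtain ⟨c, hc⟩ := Ideal.mem_span_range_iff_exists_fun.mp hz
      exact ⟨c, e, by rw [he, hc]⟩
    choose c e hce using hK
    let mk : R →+* M := Ideal.Quotient.mk _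
    let num : Fin n → M := fun l => ∑ i, c l i • mk (m i)
    have hmk : ∀ (r : A) (z : R), r • mk z = mk (algebraMap A R r * z) := fun r z => by
      rw [← Algebra.smul_def]
      exact (map_smul (Ideal.Quotient.mkₐ A _) r z).symm
    -- multiplying by `a j ^ k` identifies the new numerators with the old ones
    have hnum : ∀ l j, a j ^ k • num l = b l ^ K • mk (m j) := by
      intro l j
      simp only [num, Finset.smul_sum, hmk, map_pow]
      rw [← map_sum]
      refine Ideal.Quotient.eq.mpr ?_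
      choose d' hd' using fun i => hm i j
      refine Ideal.mem_span_singleton'.mpr
        ⟨∑ i, algebraMap A R (c l i) * d' i - algebraMap A R (e l) * m j, ?_⟩
      have h := congrArg (algebraMap A R) (hce l)
      simp only [map_pow, map_add, map_mul, map_sum] at h
      rw [h, sub_mul, Finset.sum_mul, add_mul, Finset.sum_mul, sub_add_eq_sub_sub, sub_sub,
        add_comm (algebraMap A R (e l) * f' * m j), ← sub_sub, ← Finset.sum_sub_distrib,
        mul_assoc, mul_comm (m j) f', ← mul_assoc]
      refine congrArg₂ (· - ·) (Finset.sum_congr rfl fun i _ => ?_) rfl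
      change _ = a' j ^ k * (algebraMap A R (c l i) * m i) - algebraMap A R (c l i) * a' i ^ k * m j
      linear_combination -(algebraMap A R (c l i)) * hd' i
    have hcpt : Torsion.Cpt b K num := fun l l' => by
      have h0 : ∀ j, a j ^ k • (b l' ^ K • num l - b l ^ K • num l') = 0 := fun j => by
        rw [smul_sub, smul_comm, hnum l j, smul_comm (a j ^ k), hnum l' j, smul_comm, sub_self]
      obtain ⟨cl, el, hcl⟩ : ∃ (c : ι → A) (e : A), b l ^ K = e * f + ∑ i, c i * a i ^ k :=
        ⟨c l, e l, hce l⟩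
      have hfz : ∀ z : M, f • z = 0 := fun z => by
        obtain ⟨z, rfl⟩ := Ideal.Quotient.mk_surjective z
        rw [hmk]
        exact Ideal.Quotient.eq_zero_iff_mem.mpr (Ideal.mul_mem_right _ _ (Ideal.subset_span rfl))
      refine ⟨K, ?_⟩
      generalize b l' ^ K • num l - b l ^ K • num l' = w at h0 ⊢
      rw [mul_pow, mul_comm, mul_smul, hcl, add_smul, mul_smul, hfz, smul_zero, zero_add,
        Finset.sum_smul, Finset.smul_sum]
      exact Finset.sum_eq_zero fun j _ => by rw [mul_smul, h0 j, smul_zero, smul_zero]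
    have hkill : ∀ z : LocCoh.H (Ideal.span (Set.range b)) 1 M, b l ^ N • z = 0 := by
      rw [show Ideal.span (Set.range b) = maximalIdeal A from hb]
      exact hN _ (Ideal.pow_mem_pow (hbm l) N)
    obtain ⟨z, hz⟩ := Torsion.glue_of_killed b hkill hcpt
    obtain ⟨z, rfl⟩ := Ideal.Quotient.mk_surjective z
    choose L hL using hz
    refine ⟨z, Subtype.ext (funext fun j => ?_)⟩
    -- compare on the chart `j`
    let q : R →+* Sn f' a' 0 j := algebraMap R _
    have hqf : q f' = 0 := by
      rw [show q f' = Ideal.Quotient.mk _ (algebraMap R (S a' j) f') from rfl,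
        Ideal.Quotient.eq_zero_iff_mem]
      exact Ideal.subset_span (by rw [zero_add, pow_one]; rfl)
    let Q : M →+* Sn f' a' 0 j := Ideal.Quotient.lift _ q fun w hw => by
      obtain ⟨w', rfl⟩ := Ideal.mem_span_singleton'.mp hw
      rw [map_mul, hqf, mul_zero]
    have hQsmul : ∀ (r : A) (w : M), Q (r • w) = q (algebraMap A R r) * Q w := fun r w => by
      obtain ⟨w, rfl⟩ := Ideal.Quotient.mk_surjective w
      rw [hmk]
      exact map_mul q _ _
    have hu : IsUnit (q (a' j)) :=
      (IsLocalization.Away.algebraMap_isUnit (S := S a' j) (a' j)).map (Ideal.Quotient.mk _)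
    have hxj : x.1 j * q (a' j) ^ k = q (m j) := by
      rw [← hs0 j]
      have h2 : q (m j) = Ideal.Quotient.mk _ (algebraMap R (S a' j) (a' j ^ T * m1 j)) := rfl
      rw [h2, map_mul, ← hm1 j, map_pow, ← mul_assoc, mul_comm (algebraMap R (S a' j) (a' j) ^ T),
        mul_assoc, ← pow_add, map_mul, map_pow, add_comm T]
      rfl
    have hfin : ∀ l', q (algebraMap A R (b l')) ^ (L l' + K) *
        (q (algebraMap A R (b l)) ^ N * x.1 j - q z) = 0 := by
      intro l'
      have h1 := congrArg Q (hnum l' j)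
      have h2 := congrArg Q (hL l')
      simp only [smul_sub, map_sub, hQsmul, map_zero, map_pow] at h1 h2
      refine (hu.pow k).mul_left_eq_zero.mp ?_
      have h3 : Q (mk (m j)) = q (m j) := rfl
      have h4 : Q (Ideal.Quotient.mk _ z) = q z := rfl
      rw [h3, ← hxj] at h1
      rw [h4] at h2
      linear_combination (q (algebraMap A R (b l')) ^ L l' * q (algebraMap A R (b l)) ^ N) *
        (-h1) - (q (a' j) ^ k) * h2
    obtain ⟨P, hP⟩ := Torsion.exists_pow_le_span_pow b (Finset.univ.sup L + K)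
    have haP : a j ^ P ∈ Ideal.span (Set.range fun l' => b l' ^ (Finset.univ.sup L + K)) :=
      hP (Ideal.pow_mem_pow (show a j ∈ Ideal.span (Set.range b) by
        rw [show Ideal.span (Set.range b) = maximalIdeal A from hb]; exact ha j) P)
    obtain ⟨g, hg⟩ := Ideal.mem_span_range_iff_exists_fun.mp haP
    have hzero : q (a' j) ^ P * (q (algebraMap A R (b l)) ^ N * x.1 j - q z) = 0 := by
      rw [← map_pow q, show a' j ^ P = algebraMap A R (a j ^ P) from (map_pow _ _ _).symm, ← hg]
      simp only [map_sum, map_mul, map_pow, Finset.sum_mul]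
      refine Finset.sum_eq_zero fun l' _ => ?_
      have : L l' + K ≤ Finset.univ.sup L + K :=
        Nat.add_le_add_right (Finset.le_sup (Finset.mem_univ l')) K
      rw [← Nat.sub_add_cancel this, pow_add, mul_assoc, mul_assoc, hfin l', mul_zero, mul_zero]
    have hres := sub_eq_zero.mp ((hu.pow P).mul_right_eq_zero.mp hzero)
    change b l ^ N • x.1 j = q z
    rw [← hres, Algebra.smul_def, IsScalarTower.algebraMap_apply A R (Sn f' a' 0 j), map_pow, map_pow]
  let P₀ : Submodule R W := LinearMap.range (Algebra.linearMap R W)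
  have : Module.Finite R P₀ := Module.Finite.range _
  have hmem : ∀ (x : W) l, b l ^ N • x ∈ P₀ := fun x l => (key x l).imp fun z hz => hz.symm
  have : Module.Finite R (Fin n → P₀) := Module.Finite.pi
  have : IsNoetherian R (Fin n → P₀) := isNoetherian_of_isNoetherianRing_of_finite R (Fin n → P₀)
  let Φ : W →ₗ[R] (Fin n → P₀) :=
    { toFun := fun x l => ⟨b l ^ N • x, hmem x l⟩
      map_add' := fun x y => funext fun l => Subtype.ext (smul_add _ x y)
      map_smul' := fun r x => funext fun l => Subtype.ext (smul_comm _ r x) }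
  refine Module.Finite.of_injective Φ ((injective_iff_map_eq_zero Φ).mpr fun x hx => ?_)
  refine Subtype.ext (funext fun j => ?_)
  obtain ⟨P, hP⟩ := Torsion.exists_pow_le_span_pow b N
  obtain ⟨g, hg⟩ := Ideal.mem_span_range_iff_exists_fun.mp (hP (Ideal.pow_mem_pow
    (show a j ∈ Ideal.span (Set.range b) by
      rw [show Ideal.span (Set.range b) = maximalIdeal A from hb]; exact ha j) P))
  have h0 : ∀ l, b l ^ N • x.1 j = 0 := fun l => by
    have := congrArg (fun w => (w l).1.1 j) hx
    exact this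
  have h1 : a j ^ P • x.1 j = 0 := by
    rw [← hg, Finset.sum_smul]
    exact Finset.sum_eq_zero fun l _ => by rw [mul_smul, h0, smul_zero]
  rw [Algebra.smul_def, IsScalarTower.algebraMap_apply A R (Sn f' a' 0 j), map_pow, map_pow] at h1
  exact (((IsLocalization.Away.algebraMap_isUnit (S := S a' j) (a' j)).map
    (Ideal.Quotient.mk (J f' 0 (S a' j)))).pow P).mul_right_eq_zero.mp h1

end Groth.Agent.H80.Clopen.Nbhd
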