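import Groth.Agent.H80.Clopen.Completion
import Groth.Agent.H80.Clopen.Nbhd.Level

/-!
# Clopen subsets of a cover over the punctured `V(f)` extend to a neighbourhood
-/

set_option autoImplicit false
set_option linter.unusedSectionVars false
set_option backward.isDefEq.respectTransparency false

universe u

open CategoryTheory CategoryTheory.Limits AlgebraicGeometry Polynomial

namespace Groth.Agent.H80.Clopen.Nbhd

/-- A finite subalgebra of the functions on a cover with the same charts; no locality is needed. -/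
theorem exists_finite_subalgebra' {A : Type u} [CommRing A] [IsNoetherianRing A] {ι : Type} [Finite ι] {a : ι → A}
    {U : (Spec (CommRingCat.of A)).Opens} (hU : Cover a U)
    {W : Scheme.{u}} (q : W ⟶ (U : Scheme.{u})) (hq : FEt.prop.{u} q) :
    letI := (str (q ≫ U.ι)).toAlgebra
    ∃ G : Set Γ(W, ⊤), G.Finite ∧ (∀ x ∈ G, IsIntegral A x) ∧
      ∀ i x, ∃ l : ℕ, a i ^ l • x ∈ Algebra.adjoin A G := by
  classical
  let := (str (q ≫ U.ι)).toAlgebra
  obtain ⟨_, _⟩ := compactSpace_cover hU q hq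
  have : IsFinite q := hq.1
  choose N hN hcov using fun i => (exists_local hU q hq i).1
  choose gen hgen using fun i => hN i
  have key : ∀ i (x : Γ(W, ⊤)), ∃ l : ℕ, IsIntegral A (a i ^ l • x) := by
    intro i x
    let f := algebraMap A Γ(W, ⊤) (a i)
    let Ml := Γ(W, W.basicOpen f)
    let : Algebra Γ(W, ⊤) Ml := (W.presheaf.map (homOfLE (le_top : W.basicOpen f ≤ ⊤)).op).hom.toAlgebra
    let : Algebra A Ml := ((algebraMap Γ(W, ⊤) Ml).comp (algebraMap A Γ(W, ⊤))).toAlgebra
    have : IsScalarTower A Γ(W, ⊤) Ml := IsScalarTower.of_algebraMap_eq' rfl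
    have : IsLocalization.Away f Ml := isLocalization_of_eq f rfl
    -- finiteness over the localisation
    let Bl := Localization.Away (a i)
    have hu : IsUnit (algebraMap A Ml (a i)) :=
      IsLocalization.Away.algebraMap_isUnit (S := Ml) f
    let ψ : Bl →+* Ml := IsLocalization.Away.lift (a i) hu
    let : Algebra Bl Ml := ψ.toAlgebra
    have : IsScalarTower A Bl Ml :=
      IsScalarTower.of_algebraMap_eq fun r => (IsLocalization.Away.lift_eq (a i) hu r).symm
    have : Module.Finite Bl Ml := by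
      refine ⟨⟨(gen i).image (algebraMap Γ(W, ⊤) Ml), ?_⟩⟩
      rw [eq_top_iff]
      intro y _
      obtain ⟨n, z, hz⟩ := IsLocalization.Away.surj f y
      obtain ⟨l, hl⟩ := hcov i z
      have hy : algebraMap Γ(W, ⊤) Ml (a i ^ l • z) = algebraMap A Ml (a i) ^ (l + n) * y := by
        rw [Algebra.smul_def, map_mul, map_pow, map_pow, ← hz, ← IsScalarTower.algebraMap_apply,
          pow_add]
        change _ = _
        ring
      obtain ⟨v, hv⟩ : IsUnit (algebraMap A Bl (a i) ^ (l + n)) :=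
        (IsLocalization.Away.algebraMap_isUnit (S := Bl) (a i)).pow _
      have hmem : algebraMap Γ(W, ⊤) Ml (a i ^ l • z) ∈
          Submodule.span Bl ((gen i).image (algebraMap Γ(W, ⊤) Ml) : Set Ml) := by
        rw [Finset.coe_image]
        rw [← hgen i] at hl
        have := Submodule.mem_map_of_mem
          (f := (IsScalarTower.toAlgHom A Γ(W, ⊤) Ml).toLinearMap) hl
        rw [Submodule.map_span] at this
        exact Submodule.span_le_restrictScalars A Bl _ this
      rw [hy] at hmem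
      have := Submodule.smul_mem _ (↑v⁻¹ : Bl) hmem
      rwa [IsScalarTower.algebraMap_apply A Bl Ml, ← map_pow, ← hv, Algebra.smul_def, ← mul_assoc,
        ← map_mul, Units.inv_mul, map_one, one_mul] at this
    obtain ⟨⟨_, l, rfl⟩, hl⟩ := IsIntegral.exists_multiple_integral_of_isLocalization
      (R := A) (Submonoid.powers (a i)) (Rₘ := Bl) (algebraMap Γ(W, ⊤) Ml x)
      (Algebra.IsIntegral.isIntegral _)
    refine ⟨l + 1, ?_⟩
    rw [pow_succ', mul_smul]
    refine exists_isIntegral_smul (a i) Ml _ ?_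
    rw [Algebra.smul_def, map_mul, ← IsScalarTower.algebraMap_apply, ← Algebra.smul_def]
    exact hl
  choose L hL using key
  have := Fintype.ofFinite ι
  classical
  refine ⟨⋃ i, (fun x => a i ^ L i x • x) '' (gen i : Set Γ(W, ⊤)),
    Set.finite_iUnion fun i => (gen i).finite_toSet.image _, ?_, fun i x => ?_⟩
  · rintro _ ⟨_, ⟨i, rfl⟩, y, -, rfl⟩
    exact hL i y
  obtain ⟨l, hl⟩ := hcov i x
  rw [← hgen i] at hl
  let T := (gen i).sup (L i)
  refine ⟨T + l, ?_⟩
  rw [pow_add, mul_smul]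
  generalize a i ^ l • x = z at hl ⊢
  induction hl using Submodule.span_induction with
  | mem y hy =>
    rw [show T = (T - L i y) + L i y from (Nat.sub_add_cancel (Finset.le_sup (f := L i) hy)).symm,
      pow_add, mul_smul]
    exact Subalgebra.smul_mem _ (Algebra.subset_adjoin (s := ⋃ i, (fun x => a i ^ L i x • x) ''
      (gen i : Set Γ(W, ⊤))) (Set.mem_iUnion.mpr ⟨i, y, hy, rfl⟩)) _
  | zero => rw [smul_zero]; exact zero_mem _
  | add y z _ _ hy hz => rw [smul_add]; exact add_mem hy hz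
  | smul c y _ hy => rw [smul_comm]; exact Subalgebra.smul_mem _ hy c

/-- A clopen subset of a finite etale cover over the punctured `V(f)` extends to a neighbourhood. -/
theorem exists_extension {A : Type u} [CommRing A] [IsNoetherianRing A] [IsLocalRing A]
    (B : Type u) [CommRing B] [Algebra A B] [Module.Finite A B] {ι : Type} [Finite ι]
    (a : ι → A) (f : A) [IsAdicComplete (Ideal.span {f}) A]
    (ha : ∀ i, a i ∈ IsLocalRing.maximalIdeal A)
    (hcov : ∀ p : Ideal A, p.IsPrime → f ∈ p → ¬ IsLocalRing.maximalIdeal A ≤ p → ∃ i, a i ∉ p)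
    (hreg : ∀ (i : ι) (b : B), f • b = 0 → ∃ l : ℕ, a i ^ l • b = 0)
    (hB : ∀ p ∈ associatedPrimes A (B ⧸ Ideal.span {algebraMap A B f}),
      ¬ IsLocalRing.maximalIdeal A ≤ p →
        Module.Finite A (LocCoh.H (IsLocalRing.maximalIdeal A) 1 (A ⧸ p)))
    {U : (Spec (CommRingCat.of B)).Opens} (hU : Cover (fun i => algebraMap A B (a i)) U)
    {W : Scheme.{u}} (q : W ⟶ (U : Scheme.{u})) (hq : FEt.prop.{u} q)
    (C : Set W) (hC : IsClopen ((↑) ⁻¹' C : Set {w : W | algebraMap A B f ∈
      ((q ≫ U.ι).base w : PrimeSpectrum B).asIdeal})) :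
    ∃ (V : Set (PrimeSpectrum B)) (D : Set W), IsOpen V ∧
      (∀ p : PrimeSpectrum B, (p : Spec (CommRingCat.of B)) ∈ U → algebraMap A B f ∈ p.asIdeal → p ∈ V) ∧
      IsClopen ((↑) ⁻¹' D : Set {w : W | ((q ≫ U.ι).base w : PrimeSpectrum B) ∈ V}) ∧
      ∀ w : W, algebraMap A B f ∈ ((q ≫ U.ι).base w : PrimeSpectrum B).asIdeal → (w ∈ D ↔ w ∈ C) := by
  classical
  have : IsNoetherianRing B := isNoetherian_of_tower A (inferInstanceAs (IsNoetherian A B))
  let aB : ι → B := fun i => algebraMap A B (a i)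
  have : IsFinite q := hq.1
  let := (str (q ≫ U.ι)).toAlgebra
  obtain ⟨_, _⟩ := compactSpace_cover hU q hq
  have := quasiAffine hU q hq
  obtain ⟨G, hGf, hGint, hGcov⟩ := exists_finite_subalgebra' hU q hq
  let R := Algebra.adjoin B G
  have hRfg : (Subalgebra.toSubmodule R).FG := fg_adjoin_of_finite hGf hGint
  have : Module.Finite B R := Module.Finite.iff_fg.mpr hRfg
  let : Algebra A R := ((algebraMap B R).comp (algebraMap A B)).toAlgebra
  have : IsScalarTower A B R := IsScalarTower.of_algebraMap_eq' rfl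
  have : Module.Finite A R := Module.Finite.trans B R
  have : IsNoetherianRing R := isNoetherian_of_tower A (inferInstanceAs (IsNoetherian A R))
  let f' : R := algebraMap A R f
  let a' : ι → R := fun i => algebraMap A R (a i)
  have : IsAdicComplete (Ideal.span {f'}) R := by
    rw [show Ideal.span {f'} = (Ideal.span {f}).map (algebraMap A R) by
      rw [Ideal.map_span, Set.image_singleton]]
    exact (IsAdicComplete.map_algebraMap_iff _ _).mpr Lib.Adic.Complete.isAdicComplete_of_finite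
  -- on each chart `R` is a summand of a free module
  have hsplit : Split (B := B) (R := R) a := by
    intro i
    obtain ⟨r, h, S₀, k, hS⟩ := (exists_local hU q hq i).2 (Subalgebra.toSubmodule R) hRfg
    choose l hl using fun t : Fin r => hGcov i (S₀ (Pi.single t 1))
    let L := Finset.univ.sup l
    have hmem : ∀ t, aB i ^ L • S₀ (Pi.single t 1) ∈ R := fun t => by
      rw [show L = (L - l t) + l t from
        (Nat.sub_add_cancel (Finset.le_sup (f := l) (Finset.mem_univ t))).symm, pow_add, mul_smul]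
      exact R.smul_mem (hl t) _
    refine ⟨r, h, fun t => ⟨_, hmem t⟩, L + k, fun x => ?_⟩
    rw [IsScalarTower.algebraMap_smul B (a i ^ (L + k)) x |>.symm]
    refine Subtype.ext ?_
    rw [Subalgebra.coe_smul, map_pow, pow_add, mul_smul]
    change aB i ^ L • aB i ^ k • (x : Γ(W, ⊤)) = _
    rw [← hS x, pi_eq_sum_univ' (h x)]
    simp only [map_sum, map_smul, Finset.smul_sum, AddSubmonoidClass.coe_finset_sum,
      Subalgebra.coe_smul]
    refine Finset.sum_congr rfl fun t _ => ?_
    rw [smul_comm, pi_eq_sum_univ' (h x)]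
    simp [Finset.sum_apply, Pi.single_apply]
    rfl
  have hfin : Module.Finite R (lvl f' a') := finite_lvl hsplit ha hcov hB
  have hreg' : ∀ x : R, ∀ i, f' * x = 0 → ∃ l : ℕ, a' i ^ l * x = 0 := fun x i hx =>
    regular_of_split hsplit hreg x i hx
  -- the points of `W` as primes of `R`
  let π : W → PrimeSpectrum R := fun w =>
    PrimeSpectrum.comap R.val.toRingHom (W.toSpecΓ.base w : PrimeSpectrum Γ(W, ⊤))
  have hπmem : ∀ w (b : B), algebraMap B R b ∈ (π w).asIdeal ↔
      b ∈ ((q ≫ U.ι).base w : PrimeSpectrum B).asIdeal := fun w b => by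
    rw [asIdeal_apply]
    rfl
  have hchart : ∀ i, IsLocalization.Away (a' i)
      (Localization.Away (algebraMap B Γ(W, ⊤) (aB i))) := fun i => by
    let Γi := Localization.Away (algebraMap B Γ(W, ⊤) (aB i))
    have hval : ∀ x : R, algebraMap R Γi x = algebraMap Γ(W, ⊤) Γi x.1 := fun x => rfl
    have hval' : (a' i : Γ(W, ⊤)) = algebraMap B Γ(W, ⊤) (aB i) := rfl
    refine ⟨⟨?_, fun z => ?_, fun {x y} hxy => ?_⟩⟩
    · rintro ⟨_, n, rfl⟩
      rw [map_pow, hval, hval']
      exact (IsLocalization.Away.algebraMap_isUnit (S := Γi) _).pow n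
    · obtain ⟨n, w, hw⟩ := IsLocalization.Away.surj (algebraMap B Γ(W, ⊤) (aB i)) z
      obtain ⟨l, hl⟩ := hGcov i w
      refine ⟨⟨⟨_, hl⟩, ⟨a' i ^ (n + l), n + l, rfl⟩⟩, ?_⟩
      change z * algebraMap R Γi (a' i ^ (n + l)) = algebraMap R Γi ⟨aB i ^ l • w, hl⟩
      rw [map_pow, hval, hval, hval']
      change _ = algebraMap Γ(W, ⊤) Γi (aB i ^ l • w)
      rw [pow_add, ← mul_assoc, hw, Algebra.smul_def, map_mul, map_pow, map_pow, mul_comm]
    · rw [hval, hval] at hxy
      obtain ⟨⟨_, n, rfl⟩, hn⟩ := (IsLocalization.eq_iff_exists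
        (Submonoid.powers (algebraMap B Γ(W, ⊤) (aB i))) Γi).mp hxy
      exact ⟨⟨a' i ^ n, n, rfl⟩, Subtype.ext hn⟩
  have hWi : ∀ i, IsOpen {w : W | a' i ∉ (π w).asIdeal} := fun i => by
    have hc : Continuous π :=
      (PrimeSpectrum.continuous_comap R.val.toRingHom).comp W.toSpecΓ.continuous
    exact (PrimeSpectrum.basicOpen (a' i)).isOpen.preimage hc
  have hgmem : ∀ i (w : W), a' i ∉ (π w).asIdeal →
      (W.toSpecΓ.base w : PrimeSpectrum Γ(W, ⊤)) ∈
        Set.range (PrimeSpectrum.comap (algebraMap Γ(W, ⊤)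
          (Localization.Away (algebraMap B Γ(W, ⊤) (aB i))))) := fun i w hw => by
    rw [PrimeSpectrum.localization_away_comap_range _ (algebraMap B Γ(W, ⊤) (aB i))]
    exact hw
  have hcomp : ∀ i (P : PrimeSpectrum (Localization.Away (algebraMap B Γ(W, ⊤) (aB i)))),
      PrimeSpectrum.comap R.val.toRingHom (PrimeSpectrum.comap (algebraMap Γ(W, ⊤) _) P) =
        PrimeSpectrum.comap (algebraMap R _) P := fun i P => rfl
  have hcont : Continuous π :=
    (PrimeSpectrum.continuous_comap R.val.toRingHom).comp W.toSpecΓ.continuous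
  have hcharts : ∀ w, ∃ i, a' i ∉ (π w).asIdeal := fun w => by
    obtain ⟨i, hi⟩ := exists_preimage hU q w
    exact ⟨i, hi⟩
  have hinj : Function.Injective π := fun w w' h => by
    obtain ⟨i, hi⟩ := hcharts w
    obtain ⟨P, hP⟩ := hgmem i w hi
    obtain ⟨P', hP'⟩ := hgmem i w' (h ▸ hi)
    have := hchart i
    have hPP : P = P' := (PrimeSpectrum.localization_away_isOpenEmbedding
      (Localization.Away (algebraMap B Γ(W, ⊤) (aB i))) (a' i)).injective (by
        rw [← hcomp i P, ← hcomp i P', hP, hP']; exact h)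
    exact W.toSpecΓ.isOpenEmbedding.injective (hP.symm.trans (hPP ▸ hP'))
  have hopen : IsOpenMap π := fun O hO => by
    refine isOpen_iff_forall_mem_open.mpr ?_
    rintro _ ⟨w, hw, rfl⟩
    obtain ⟨i, hi⟩ := hcharts w
    have := hchart i
    let ρ := PrimeSpectrum.comap (algebraMap Γ(W, ⊤) (Localization.Away (algebraMap B Γ(W, ⊤) (aB i))))
    refine ⟨PrimeSpectrum.comap (algebraMap R _) '' (ρ ⁻¹' (W.toSpecΓ.base '' O)), ?_,
      (PrimeSpectrum.localization_away_isOpenEmbedding _ (a' i)).isOpenMap _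
        ((W.toSpecΓ.isOpenEmbedding.isOpenMap O hO).preimage (PrimeSpectrum.continuous_comap _)), ?_⟩
    · rintro _ ⟨P, ⟨v, hv, hvP⟩, rfl⟩
      exact ⟨v, hv, by rw [← hcomp i P]; exact congrArg (PrimeSpectrum.comap R.val.toRingHom) hvP⟩
    · obtain ⟨P, hP⟩ := hgmem i w hi
      exact ⟨P, ⟨w, hw, hP.symm⟩, by rw [← hcomp i P, hP]⟩
  have hemb : Topology.IsOpenEmbedding π :=
    Topology.IsOpenEmbedding.of_continuous_injective_isOpenMap hcont hinj hopen
  have hrange : ∀ x : PrimeSpectrum R, (∃ i, a' i ∉ x.asIdeal) → x ∈ Set.range π := by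
    rintro x ⟨i, hi⟩
    have := hchart i
    obtain ⟨P, rfl⟩ : x ∈ Set.range (PrimeSpectrum.comap (algebraMap R
        (Localization.Away (algebraMap B Γ(W, ⊤) (aB i))))) := by
      rw [PrimeSpectrum.localization_away_comap_range _ (a' i)]
      exact hi
    obtain ⟨w, hw⟩ := mem_range_toSpecΓ hU q hq i (PrimeSpectrum.comap (algebraMap Γ(W, ⊤) _) P) (by
      intro h
      exact P.isPrime.ne_top (Ideal.eq_top_of_isUnit_mem _ h
        (IsLocalization.Away.algebraMap_isUnit (algebraMap B Γ(W, ⊤) (aB i)))))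
    exact ⟨w, by rw [← hcomp i P, ← hw]⟩
  have hf' : ∀ w, f' ∈ (π w).asIdeal ↔
      algebraMap A B f ∈ ((q ≫ U.ι).base w : PrimeSpectrum B).asIdeal :=
    fun w => hπmem w (algebraMap A B f)
  -- the clopen in the spectrum of `R`
  let Z₀ : Set W := {w : W | algebraMap A B f ∈ ((q ≫ U.ι).base w : PrimeSpectrum B).asIdeal}
  let κ : Z₀ → formalSet f' a' := fun w => ⟨π w.1, (hf' w.1).mpr w.2, hcharts w.1⟩
  have hκsurj : Function.Surjective κ := fun x => by
    obtain ⟨w, hw⟩ := hrange x.1 x.2.2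
    exact ⟨⟨w, (hf' w).mp (hw.symm ▸ x.2.1)⟩, Subtype.ext hw⟩
  have hκ : Topology.IsInducing κ :=
    (hemb.isInducing.comp Topology.IsInducing.subtypeVal).codRestrict (s := formalSet f' a')
      fun w => (κ w).2
  let κ' : Z₀ ≃ formalSet f' a' :=
    Equiv.ofBijective κ ⟨fun x y h => Subtype.ext (hinj (congrArg Subtype.val h)), hκsurj⟩
  let e : Z₀ ≃ₜ formalSet f' a' := κ'.toHomeomorphOfIsInducing hκ
  have hC' : IsClopen ((↑) ⁻¹' (π '' C) : Set (formalSet f' a')) := by
    convert hC.preimage e.symm.continuous using 1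
    ext x
    obtain ⟨w, rfl⟩ := hκsurj x
    change π w.1 ∈ π '' C ↔ (e.symm (e w)).1 ∈ C
    rw [e.symm_apply_apply, hinj.mem_set_image]
  obtain ⟨O, D, hO, hsub, hD, hDC⟩ := exists_nbhd_clopen hreg' hfin (π '' C) hC'
  refine ⟨(SetLike.coe U) \ ((q ≫ U.ι).base '' (π ⁻¹' O)ᶜ), π ⁻¹' D, ?_, ?_, ?_, ?_⟩
  · have hcl := q.isClosedMap _ (hO.preimage hcont).isClosed_compl
    have : (SetLike.coe U) \ ((q ≫ U.ι).base '' (π ⁻¹' O)ᶜ) =
        U.ι.base '' (q.base '' (π ⁻¹' O)ᶜ)ᶜ := by
      rw [Set.image_compl_eq_range_sdiff_image U.ι.isOpenEmbedding.injective, Scheme.Opens.range_ι,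
        Set.image_image]
      rfl
    rw [this]
    exact U.ι.isOpenEmbedding.isOpenMap _ hcl.isOpen_compl
  · rintro p hpU hfp
    refine ⟨hpU, ?_⟩
    rintro ⟨w, hw, rfl⟩
    exact hw (hsub ⟨(hf' w).mpr hfp, hcharts w⟩)
  · have hin : ∀ w : {w : W | ((q ≫ U.ι).base w : PrimeSpectrum B) ∈
        (SetLike.coe U) \ ((q ≫ U.ι).base '' (π ⁻¹' O)ᶜ)}, π w.1 ∈ O := fun w =>
      by_contra fun h => w.2.2 ⟨w.1, h, rfl⟩
    exact hD.preimage ((hcont.comp continuous_subtype_val).subtype_mk hin)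
  · intro w hw
    exact (hDC (π w) ⟨(hf' w).mpr hw, hcharts w⟩).trans hinj.mem_set_image

end Groth.Agent.H80.Clopen.Nbhd
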