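import Groth.Agent.Lib.FEt.FullyFaithful
import Groth.Agent.Lib.FinCond.Components
import Mathlib.Topology.Connected.Clopen

/-!
# Restriction from the germ of a neighbourhood is fully faithful

If clopen subsets over the image of `u'` extend to neighbourhoods, then morphisms between the
restrictions of finite etale covers extend to a neighbourhood.
-/

set_option autoImplicit false
set_option backward.isDefEq.respectTransparency false

universe u

open CategoryTheory CategoryTheory.Limits AlgebraicGeometry TopologicalSpace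

namespace Groth.Agent.H80.Clopen.Nbhd

/-- Clopen subsets over `Z` extend to neighbourhoods when they do after a finite jointly surjective
family of closed maps. -/
theorem exists_extension_of_family {P W : Type*} [TopologicalSpace P] [TopologicalSpace W]
    (v : W → P) (hv : IsClosedMap v) (Z : Set P) (C : Set W) {κ : Type*} [Finite κ] (Y : κ → Type*)
    [∀ k, TopologicalSpace (Y k)] (π : ∀ k, Y k → W) (hπ : ∀ k, IsClosedMap (π k))
    (hsurj : ∀ w, ∃ k y, π k y = w)
    (h : ∀ k, ∃ (V : Set P) (D : Set (Y k)), IsOpen V ∧ Z ⊆ V ∧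
      IsClopen ((↑) ⁻¹' D : Set ((v ∘ π k) ⁻¹' V)) ∧ ∀ y, v (π k y) ∈ Z → (y ∈ D ↔ π k y ∈ C)) :
    ∃ (V : Set P) (D : Set W), IsOpen V ∧ Z ⊆ V ∧ IsClopen ((↑) ⁻¹' D : Set (v ⁻¹' V)) ∧
      ∀ w, v w ∈ Z → (w ∈ D ↔ w ∈ C) := by
  choose V D hV hZV hD hDC using h
  choose F hF hFD using fun k => isClosed_induced_iff.mp (hD k).1
  choose G hG hGD using fun k => isClosed_induced_iff.mp (hD k).compl.1
  let F' : Set W := ⋃ k, π k '' F k
  let G' : Set W := ⋃ k, π k '' G k
  have hF' : IsClosed F' := isClosed_iUnion_of_finite fun k => hπ k _ (hF k)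
  have hG' : IsClosed G' := isClosed_iUnion_of_finite fun k => hπ k _ (hG k)
  have hFD' : ∀ k y, v (π k y) ∈ V k → (y ∈ F k ↔ y ∈ D k) := fun k y hy =>
    Set.ext_iff.mp (hFD k) ⟨y, hy⟩
  have hGD' : ∀ k y, v (π k y) ∈ V k → (y ∈ G k ↔ y ∉ D k) := fun k y hy =>
    Set.ext_iff.mp (hGD k) ⟨y, hy⟩
  have hF'C : ∀ w, v w ∈ Z → w ∈ F' → w ∈ C := by
    intro w hw hwF
    obtain ⟨k, y, hy, rfl⟩ := Set.mem_iUnion.mp hwF
    exact (hDC k y hw).mp ((hFD' k y (hZV k hw)).mp hy)
  have hG'C : ∀ w, v w ∈ Z → w ∈ G' → w ∉ C := by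
    intro w hw hwG hwC
    obtain ⟨k, y, hy, rfl⟩ := Set.mem_iUnion.mp hwG
    exact (hGD' k y (hZV k hw)).mp hy ((hDC k y hw).mpr hwC)
  refine ⟨(⋂ k, V k) \ v '' (F' ∩ G'), F',
    (isOpen_iInter_of_finite hV).sdiff (hv _ (hF'.inter hG')), ?_, ?_, ?_⟩
  · refine fun z hz => ⟨Set.mem_iInter.mpr fun k => hZV k hz, ?_⟩
    rintro ⟨w, ⟨hwF, hwG⟩, rfl⟩
    exact hG'C w hz hwG (hF'C w hz hwF)
  · have hcov : ∀ w, v w ∈ ⋂ k, V k → w ∈ F' ∪ G' := by
      intro w hw
      obtain ⟨k, y, rfl⟩ := hsurj w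
      by_cases hy : y ∈ D k
      · exact .inl (Set.mem_iUnion.mpr ⟨k, y, (hFD' k y (Set.mem_iInter.mp hw k)).mpr hy, rfl⟩)
      · exact .inr (Set.mem_iUnion.mpr ⟨k, y, (hGD' k y (Set.mem_iInter.mp hw k)).mpr hy, rfl⟩)
    refine ⟨hF'.preimage continuous_subtype_val, ?_⟩
    rw [← isClosed_compl_iff]
    convert hG'.preimage continuous_subtype_val using 1
    ext ⟨w, hw⟩
    exact ⟨fun h => (hcov w hw.1).resolve_left h, fun hwG hwF => hw.2 ⟨w, ⟨hwF, hwG⟩, rfl⟩⟩
  · refine fun w hw => ⟨hF'C w hw, fun hwC => ?_⟩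
    obtain ⟨k, y, rfl⟩ := hsurj w
    exact Set.mem_iUnion.mpr ⟨k, y, (hFD' k y (hZV k hw)).mpr ((hDC k y hw).mpr hwC), rfl⟩

variable {X : Scheme.{u}} {X₀ : Scheme.{u}} {U' : X.Opens} (u' : X₀ ⟶ (U' : Scheme.{u}))

/-- Clopen subsets over the image of `u'` extend to neighbourhoods. -/
def Extends : Prop :=
  ∀ (W : FEt.Cat (U' : Scheme.{u})) (C : Set W.left),
    IsClopen (Subtype.val ⁻¹' C : Set {w : W.left // W.hom.base w ∈ Set.range u'.base}) →
    ∃ (V : Set (U' : Scheme.{u})) (D : Set W.left), IsOpen V ∧ Set.range u'.base ⊆ V ∧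
      IsClopen (Subtype.val ⁻¹' D : Set {w : W.left // W.hom.base w ∈ V}) ∧
      ∀ w, W.hom.base w ∈ Set.range u'.base → (w ∈ D ↔ w ∈ C)

/-- The comparison of the two ways to restrict preserves the point of the cover. -/
theorem pullbackComp_fst {U'' : Scheme.{u}} (j : U'' ⟶ (U' : Scheme.{u})) (u'' : X₀ ⟶ U'')
    (u : X₀ ⟶ (U' : Scheme.{u})) (hu : u = u'' ≫ j) (W : FEt.Cat (U' : Scheme.{u})) :
    ((MorphismProperty.Over.pullbackComp (P := FEt.prop.{u}) (Q := ⊤) u'' j u hu).hom.app W).left ≫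
      pullback.fst (pullback.snd W.hom j) u'' ≫ pullback.fst W.hom j = pullback.fst W.hom u := by
  subst hu
  exact MorphismProperty.Over.pullbackComp_left_fst_fst u'' j W

/-- Morphisms between restrictions extend to a neighbourhood. -/
theorem exists_germ_hom [NoetherianSpace X] [IsClosedImmersion u'] (hext : Extends u')
    (V' W' : FEt.Cat (U' : Scheme.{u}))
    (φ₀ : (FEt.restrict u').obj V' ⟶ (FEt.restrict u').obj W') :
    ∃ (U'' : X.Opens) (h : U'' ≤ U') (u'' : X₀ ⟶ (U'' : Scheme.{u}))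
      (hu : u'' ≫ X.homOfLE h = u')
      (φ : (FEt.restrict (X.homOfLE h)).obj V' ⟶ (FEt.restrict (X.homOfLE h)).obj W'),
      (FEt.restrict u'').map φ =
        (MorphismProperty.Over.pullbackComp u'' (X.homOfLE h) u' hu.symm).inv.app V' ≫ φ₀ ≫
          (MorphismProperty.Over.pullbackComp u'' (X.homOfLE h) u' hu.symm).hom.app W' := by
  -- the graph of `φ₀`
  let P := V' ⨯ W'
  let γ : (FEt.restrict u').obj V' ⟶ (FEt.restrict u').obj P :=
    prod.lift (𝟙 _) φ₀ ≫ inv (prodComparison (FEt.restrict u') V' W')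
  have hγ : γ ≫ (FEt.restrict u').map prod.fst = 𝟙 _ :=
    (Category.assoc _ _ _).trans ((congrArg (_ ≫ ·) (inv_prodComparison_map_fst _)).trans
      (prod.lift_fst _ _))
  have hγ' : γ ≫ (FEt.restrict u').map prod.snd = φ₀ :=
    (Category.assoc _ _ _).trans ((congrArg (_ ≫ ·) (inv_prodComparison_map_snd _)).trans
      (prod.lift_snd _ _))
  have : Mono γ := (IsSplitMono.mk' ⟨_, hγ⟩).mono
  have := Lib.FEt.Summand.isOpenImmersion_left γ
  have := Lib.FEt.Basic.isFinite_left γ
  have hS : IsClopen (Set.range γ.left.base) :=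
    ⟨γ.left.isClosedMap.isClosed_range, γ.left.isOpenEmbedding.isOpen_range⟩
  let ι₀ := (pullback.fst P.hom u').base
  have hι₀ : Topology.IsEmbedding ι₀ := (pullback.fst P.hom u').isClosedEmbedding.isEmbedding
  have hC : IsClopen ((↑) ⁻¹' (ι₀ '' Set.range γ.left.base) :
      Set (P.hom.base ⁻¹' Set.range u'.base)) := by
    let κ : (P.hom.base ⁻¹' Set.range u'.base) → (pullback P.hom u' : Scheme.{u}) := fun w =>
      hι₀.toHomeomorph.symm ⟨w.1, by rw [Scheme.Pullback.range_fst]; exact w.2⟩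
    have hκ : Continuous κ :=
      hι₀.toHomeomorph.symm.continuous.comp (continuous_subtype_val.subtype_mk _)
    convert hS.preimage hκ using 1
    ext w
    have hw : ι₀ (κ w) = w.1 := congrArg Subtype.val (hι₀.toHomeomorph.apply_symm_apply _)
    change w.1 ∈ ι₀ '' Set.range γ.left.base ↔ κ w ∈ Set.range γ.left.base
    rw [← hw, hι₀.injective.mem_set_image]
  obtain ⟨V, D, hV, hZV, hD, hDC⟩ := hext P _ hC
  -- the union of the components of `V` which meet the image of `u'`
  let Vx : Set X := U'.ι.base '' V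
  have hVx : IsOpen Vx := U'.ι.isOpenEmbedding.isOpenMap _ hV
  have : LocallyConnectedSpace X :=
    Lib.FinCond.locallyConnectedSpace_of_locally_noetherian fun x =>
      ⟨Set.univ, Filter.univ_mem, inferInstance⟩
  let Zx : Set X := Set.range (u' ≫ U'.ι).base
  let U'' : X.Opens := ⟨{x | x ∈ Vx ∧ (connectedComponentIn Vx x ∩ Zx).Nonempty},
    isOpen_iff_forall_mem_open.mpr fun x hx => ⟨connectedComponentIn Vx x,
      fun y hy => ⟨connectedComponentIn_subset _ _ hy, connectedComponentIn_eq hy ▸ hx.2⟩,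
      hVx.connectedComponentIn, mem_connectedComponentIn hx.1⟩⟩
  have hle : U'' ≤ U' := fun x hx => by
    obtain ⟨⟨y, hy⟩, -, rfl⟩ := hx.1
    exact hy
  have hrange : Set.range (u' ≫ U'.ι).base ⊆ Set.range U''.ι.base := by
    rintro _ ⟨t, rfl⟩
    rw [Scheme.Opens.range_ι]
    have h1 : (u' ≫ U'.ι).base t ∈ Vx := ⟨u'.base t, hZV ⟨t, rfl⟩, rfl⟩
    exact ⟨h1, _, mem_connectedComponentIn h1, t, rfl⟩
  let u'' : X₀ ⟶ (U'' : Scheme.{u}) := IsOpenImmersion.lift U''.ι (u' ≫ U'.ι) hrange
  let j := X.homOfLE hle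
  have hu : u'' ≫ j = u' := by
    rw [← cancel_mono U'.ι, Category.assoc, Scheme.homOfLE_ι, IsOpenImmersion.lift_fac]
  have hu'' : ∀ t, U''.ι.base (u''.base t) = (u' ≫ U'.ι).base t := fun t =>
    congrArg (fun q => q.base t) (IsOpenImmersion.lift_fac U''.ι (u' ≫ U'.ι) hrange)
  have hmeet : Lib.FEt.Conservative.MeetsClopens (U'' : Scheme.{u}) (Set.range u''.base) := by
    intro s hs hne
    obtain ⟨x, hx⟩ := hne
    have hxV : U''.ι.base x ∈ U'' := x.2
    let K := connectedComponentIn Vx (U''.ι.base x)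
    have hK : K ⊆ Set.range U''.ι.base := fun y hy => by
      rw [Scheme.Opens.range_ι]
      exact ⟨connectedComponentIn_subset _ _ hy, connectedComponentIn_eq hy ▸ hxV.2⟩
    have hKc : _root_.IsPreconnected (U''.ι.base ⁻¹' K) := by
      refine (U''.ι.isOpenEmbedding.isInducing.isPreconnected_image).mp ?_
      rw [Set.image_preimage_eq_of_subset hK]
      exact isPreconnected_connectedComponentIn
    have hKs : U''.ι.base ⁻¹' K ⊆ s :=
      hKc.subset_isClopen hs ⟨x, mem_connectedComponentIn hxV.1, hx⟩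
    obtain ⟨_, hyK, t, rfl⟩ := hxV.2
    exact ⟨u''.base t, hKs (show U''.ι.base (u''.base t) ∈ K by rw [hu'']; exact hyK), t, rfl⟩
  -- transport to the neighbourhood
  let pc := MorphismProperty.Over.pullbackComp (P := FEt.prop.{u}) (Q := ⊤) u'' j u' hu.symm
  let R := FEt.restrict j
  let γ'' : (FEt.restrict u'').obj (R.obj V') ⟶ (FEt.restrict u'').obj (R.obj P) :=
    pc.inv.app V' ≫ γ ≫ pc.hom.app P
  have hγ'' : γ'' ≫ (FEt.restrict u'').map (R.map prod.fst) = 𝟙 _ := by
    have hn : (FEt.restrict u').map (prod.fst : P ⟶ V') ≫ pc.hom.app V' =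
        pc.hom.app P ≫ (FEt.restrict u'').map (R.map prod.fst) := pc.hom.naturality _
    simp only [γ'', Category.assoc]
    rw [← hn, ← Category.assoc γ, hγ, Category.id_comp]
    exact pc.inv_hom_id_app V'
  have hcl : ∃ D'' : Set (R.obj P).left, IsClopen D'' ∧
      (pullback.fst (R.obj P).hom u'').base ⁻¹' D'' = Set.range γ''.left.base := by
    refine ⟨(pullback.fst P.hom j).base ⁻¹' D, ?_, ?_⟩
    · have hin : ∀ y, (pullback.fst P.hom j).base y ∈ P.hom.base ⁻¹' V := fun y => by
        have h2 : P.hom.base ((pullback.fst P.hom j).base y) =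
            j.base ((pullback.snd P.hom j).base y) :=
          congrArg (fun q => q.base y) (pullback.condition (f := P.hom) (g := j))
        change P.hom.base _ ∈ V
        rw [h2]
        obtain ⟨z, hz, hzx⟩ := ((pullback.snd P.hom j).base y).2.1
        have : j.base ((pullback.snd P.hom j).base y) = z := U'.ι.isOpenEmbedding.injective (by
          rw [hzx]
          exact congrArg (fun q => q.base ((pullback.snd P.hom j).base y)) (X.homOfLE_ι hle))
        rw [this]
        exact hz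
      exact hD.preimage ((pullback.fst P.hom j).continuous.subtype_mk hin)
    · let E := (pc.hom.app P).left
      have hE : E ≫ pullback.fst (R.obj P).hom u'' ≫ pullback.fst P.hom j = pullback.fst P.hom u' :=
        pullbackComp_fst j u'' u' hu.symm P
      have : IsIso E := inferInstanceAs (IsIso ((MorphismProperty.Over.forget FEt.prop.{u} ⊤ _ ⋙
        Over.forget _).map (pc.hom.app P)))
      have : IsIso (pc.inv.app V').left := inferInstanceAs (IsIso
        ((MorphismProperty.Over.forget FEt.prop.{u} ⊤ _ ⋙ Over.forget _).map (pc.inv.app V')))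
      have hsurj : Function.Surjective (pc.inv.app V').left.base :=
        (pc.inv.app V').left.homeomorph.surjective
      have hr : Set.range γ''.left.base = E.base '' Set.range γ.left.base := by
        rw [← Set.range_comp, show (γ''.left.base : _ → _) =
          (E.base ∘ γ.left.base) ∘ (pc.inv.app V').left.base from rfl]
        exact hsurj.range_comp _
      rw [hr]
      ext z
      obtain ⟨y, rfl⟩ := E.homeomorph.surjective z
      have hz : (pullback.fst P.hom j).base ((pullback.fst (R.obj P).hom u'').base (E.base y)) =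
          ι₀ y := congrArg (fun q => q.base y) hE
      change (pullback.fst P.hom j).base _ ∈ D ↔ E.base y ∈ _
      have hEinj : Function.Injective E.base := E.homeomorph.injective
      change _ ↔ E.base y ∈ E.base '' Set.range γ.left.base
      rw [hEinj.mem_set_image]
      change (pullback.fst P.hom j).base ((pullback.fst (R.obj P).hom u'').base (E.base y)) ∈ D ↔ _
      rw [hz, hDC _ ?_, hι₀.injective.mem_set_image]
      exact ⟨(pullback.snd P.hom u').base y,
        (congrArg (fun q => q.base y) (pullback.condition (f := P.hom) (g := u'))).symm⟩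
  obtain ⟨s, hs⟩ := Lib.FEt.FullyFaithful.exists_hom_of_section hmeet (R.map prod.fst) γ'' hγ'' hcl
  refine ⟨U'', hle, u'', hu, s ≫ R.map prod.snd, ?_⟩
  have hn : (FEt.restrict u').map (prod.snd : P ⟶ W') ≫ pc.hom.app W' =
      pc.hom.app P ≫ (FEt.restrict u'').map (R.map prod.snd) := pc.hom.naturality _
  rw [Functor.map_comp, hs]
  simp only [γ'', Category.assoc]
  rw [← hn, ← Category.assoc γ, hγ']

/-- Morphisms with the same restriction agree on a neighbourhood. -/
theorem exists_germ_eq (V' W' : FEt.Cat (U' : Scheme.{u})) (φ ψ : V' ⟶ W')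
    (heq : (FEt.restrict u').map φ = (FEt.restrict u').map ψ) :
    ∃ (U'' : X.Opens) (h : U'' ≤ U') (u'' : X₀ ⟶ (U'' : Scheme.{u})),
      u'' ≫ X.homOfLE h = u' ∧
      (FEt.restrict (X.homOfLE h)).map φ = (FEt.restrict (X.homOfLE h)).map ψ := by
  have hw : φ.left ≫ W'.hom = ψ.left ≫ W'.hom := (Over.w φ.hom).trans (Over.w ψ.hom).symm
  have : IsFinite V'.hom := V'.prop.1
  have : IsFinite W'.hom := W'.prop.1
  have : Etale W'.hom := W'.prop.2
  let Q := Lib.FEt.Basic.eqSet φ.left ψ.left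
  have hQ : IsClopen Q := Lib.FEt.Basic.isClopen_eqSet W'.hom φ.left ψ.left hw
  let Vs : Set (U' : Scheme.{u}) := (V'.hom.base '' Qᶜ)ᶜ
  have hVs : IsOpen Vs := (V'.hom.isClosedMap _ hQ.compl.1).isOpen_compl
  let U'' : X.Opens := ⟨U'.ι.base '' Vs, U'.ι.isOpenEmbedding.isOpenMap _ hVs⟩
  have hle : U'' ≤ U' := fun x hx => by
    obtain ⟨⟨y, hy⟩, -, rfl⟩ := hx
    exact hy
  have hrange : Set.range (u' ≫ U'.ι).base ⊆ Set.range U''.ι.base := by
    rintro _ ⟨t, rfl⟩
    rw [Scheme.Opens.range_ι]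
    refine ⟨u'.base t, ?_, rfl⟩
    rintro ⟨y, hy, hyt⟩
    obtain ⟨z, rfl, -⟩ := Scheme.Pullback.exists_preimage_pullback (f := V'.hom) (g := u') y t hyt
    exact hy (Lib.FEt.Basic.mem_eqSet_of_agree W'.hom φ.left ψ.left hw _
      (Lib.FEt.Basic.fst_comp_eq_of_restrict_map_eq u' heq) z)
  let u'' : X₀ ⟶ (U'' : Scheme.{u}) := IsOpenImmersion.lift U''.ι (u' ≫ U'.ι) hrange
  let j := X.homOfLE hle
  have hu : u'' ≫ j = u' := by
    rw [← cancel_mono U'.ι, Category.assoc, Scheme.homOfLE_ι, IsOpenImmersion.lift_fac]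
  refine ⟨U'', hle, u'', hu, ?_⟩
  have := Lib.FEt.Basic.isOpenImmersion_eqι W'.hom φ.left ψ.left hw
  have hsub : Set.range (pullback.fst V'.hom j).base ⊆
      Set.range (Lib.FEt.Basic.eqι W'.hom φ.left ψ.left hw).base := by
    rintro _ ⟨y, rfl⟩
    rw [Lib.FEt.Basic.range_eqι]
    by_contra hy
    obtain ⟨z, hz, hzx⟩ := ((pullback.snd V'.hom j).base y).2
    have h2 : V'.hom.base ((pullback.fst V'.hom j).base y) =
        j.base ((pullback.snd V'.hom j).base y) :=
      congrArg (fun q => q.base y) (pullback.condition (f := V'.hom) (g := j))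
    have h3 : j.base ((pullback.snd V'.hom j).base y) = z := U'.ι.isOpenEmbedding.injective (by
      rw [hzx]
      exact congrArg (fun q => q.base ((pullback.snd V'.hom j).base y)) (X.homOfLE_ι hle))
    exact hz ⟨_, hy, h2.trans h3⟩
  obtain ⟨l, hl⟩ : ∃ l, l ≫ Lib.FEt.Basic.eqι W'.hom φ.left ψ.left hw = pullback.fst V'.hom j :=
    ⟨IsOpenImmersion.lift _ _ hsub, IsOpenImmersion.lift_fac _ _ _⟩
  have hkey : pullback.fst V'.hom j ≫ φ.left = pullback.fst V'.hom j ≫ ψ.left := by
    rw [← hl, Category.assoc, Category.assoc, Lib.FEt.Basic.eqι_comp]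
  refine MorphismProperty.Over.Hom.ext (pullback.hom_ext ?_ ?_)
  · rw [Lib.FEt.Basic.restrict_map_fst, Lib.FEt.Basic.restrict_map_fst, hkey]
  · exact (Over.w ((FEt.restrict j).map φ).hom).trans (Over.w ((FEt.restrict j).map ψ).hom).symm

end Groth.Agent.H80.Clopen.Nbhd
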