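import Groth.Agent.H80.Clopen.Nbhd.Extend
import Groth.Agent.H80.Clopen.Nbhd.Germ

/-!
# Extension of clopens from the punctured `V(f)`, after a finite covering family of algebras
-/

set_option autoImplicit false
set_option backward.isDefEq.respectTransparency false

universe u

open CategoryTheory CategoryTheory.Limits AlgebraicGeometry IsLocalRing

namespace Groth.Agent.H80.Clopen.Nbhd

/-- Clopens extend when a finite family of finite algebras covering `U'` consists of algebras killed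
by `f` and algebras with `f` regular and finite `H¹` at the associated primes of the quotient. -/
theorem extends_of_family {A : Type u} [CommRing A] [IsNoetherianRing A] [IsLocalRing A] (f : A)
    [IsAdicComplete (Ideal.span {f}) A] {U' : (Spec (CommRingCat.of A)).Opens}
    (hU' : U' ≤ FEt.puncturedSpec A)
    (hfU : ∀ x : Spec (CommRingCat.of A), x ∈ FEt.puncturedSpec A →
      f ∈ (x : PrimeSpectrum A).asIdeal → x ∈ U')
    {X₀ : Scheme.{u}} (u' : X₀ ⟶ (U' : Scheme.{u}))
    (hu : Set.range u'.base = {x | f ∈ ((U'.ι.base x : Spec (CommRingCat.of A)) : PrimeSpectrum A).asIdeal})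
    {κ : Type} [Finite κ] (B : κ → Type u) [∀ k, CommRing (B k)] [∀ k, Algebra A (B k)]
    [∀ k, Module.Finite A (B k)]
    (hsurj : ∀ x : Spec (CommRingCat.of A), x ∈ U' → ∃ k, ∃ P : PrimeSpectrum (B k),
      PrimeSpectrum.comap (algebraMap A (B k)) P = (x : PrimeSpectrum A))
    (hB : ∀ k, algebraMap A (B k) f = 0 ∨
      ((∀ a ∈ maximalIdeal A, ∀ b : B k, f • b = 0 → ∃ l : ℕ, a ^ l • b = 0) ∧
        ∀ p ∈ associatedPrimes A (B k ⧸ Ideal.span {algebraMap A (B k) f}),
          ¬ maximalIdeal A ≤ p → Module.Finite A (LocCoh.H (maximalIdeal A) 1 (A ⧸ p)))) :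
    Extends u' := by
  intro W C hC
  -- charts for `U'`
  obtain ⟨I, hI⟩ := (PrimeSpectrum.isClosed_iff_zeroLocus_ideal
    ((SetLike.coe U')ᶜ : Set (PrimeSpectrum A))).mp U'.2.isClosed_compl
  obtain ⟨n, a, ha⟩ := Submodule.fg_iff_exists_fin_generating_family.mp (IsNoetherian.noetherian I)
  have hmem : ∀ x : Spec (CommRingCat.of A), x ∈ U' ↔ ∃ i, a i ∉ (x : PrimeSpectrum A).asIdeal := by
    intro x
    have h := Set.ext_iff.mp hI (x : PrimeSpectrum A)
    rw [Set.mem_compl_iff, PrimeSpectrum.mem_zeroLocus, SetLike.coe_subset_coe, ← ha,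
      Submodule.span_le, Set.range_subset_iff] at h
    rw [← not_iff_not]
    simp only [not_exists, not_not]
    exact h
  have ham : ∀ i, a i ∈ maximalIdeal A := fun i => by
    by_contra hi
    exact hU' ((hmem (IsLocalRing.closedPoint A)).mpr ⟨i, hi⟩) rfl
  have hpunct : ∀ x : Spec (CommRingCat.of A), ¬ maximalIdeal A ≤ (x : PrimeSpectrum A).asIdeal →
      x ∈ FEt.puncturedSpec A := fun x hx h => hx (by
    have : (x : PrimeSpectrum A) = IsLocalRing.closedPoint A := h
    rw [this]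
    exact le_rfl)
  have hcov : ∀ p : Ideal A, p.IsPrime → f ∈ p → ¬ maximalIdeal A ≤ p → ∃ i, a i ∉ p :=
    fun p hp hfp hm => (hmem (⟨p, hp⟩ : PrimeSpectrum A)).mp
      (hfU (⟨p, hp⟩ : PrimeSpectrum A) (hpunct (⟨p, hp⟩ : PrimeSpectrum A) hm) hfp)
  let Z : Set (U' : Scheme.{u}) := Set.range u'.base
  let π : ∀ k, Spec (CommRingCat.of (B k)) ⟶ Spec (CommRingCat.of A) := fun k =>
    Spec.map (CommRingCat.ofHom (algebraMap A (B k)))
  have : ∀ k, IsFinite (π k) := fun k =>
    (AlgebraicGeometry.IsFinite.SpecMap_iff _).mpr (RingHom.finite_algebraMap.mpr inferInstance)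
  let π' : ∀ k, ((π k ⁻¹ᵁ U' : (Spec (CommRingCat.of (B k))).Opens) : Scheme.{u}) ⟶ (U' : Scheme.{u}) :=
    fun k => π k ∣_ U'
  have : ∀ k, IsFinite (π' k) := fun k => inferInstanceAs (IsFinite (π k ∣_ U'))
  let q : ∀ k, FEt.Cat ((π k ⁻¹ᵁ U' : (Spec (CommRingCat.of (B k))).Opens) : Scheme.{u}) :=
    fun k => (FEt.restrict (π' k)).obj W
  let ρ : ∀ k, (q k).left → W.left := fun k => (pullback.fst W.hom (π' k)).base
  have hfin : ∀ k, IsFinite (pullback.fst W.hom (π' k)) := fun k =>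
    MorphismProperty.pullback_fst _ _ inferInstance
  have hWfin : IsFinite W.hom := W.prop.1
  refine exists_extension_of_family W.hom.base W.hom.isClosedMap Z C (fun k => (q k).left) ρ
    (fun k => (pullback.fst W.hom (π' k)).isClosedMap) (fun w => ?_) fun k => ?_
  · obtain ⟨k, P, hP⟩ := hsurj _ (W.hom.base w).2
    have hPU : (P : Spec (CommRingCat.of (B k))) ∈ π k ⁻¹ᵁ U' := by
      change (π k).base P ∈ U'
      rw [show (π k).base P = U'.ι.base (W.hom.base w) from hP]
      exact (W.hom.base w).2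
    obtain ⟨z, hz, -⟩ := Scheme.Pullback.exists_preimage_pullback (f := W.hom) (g := π' k) w
      ⟨P, hPU⟩ (Subtype.ext (by
        change _ = U'.ι.base ((π k ∣_ U').base ⟨P, hPU⟩)
        rw [show U'.ι.base ((π k ∣_ U').base ⟨P, hPU⟩) = (π k).base P from
          congrArg (fun g => g.base (⟨P, hPU⟩ : ((π k ⁻¹ᵁ U' : (Spec (CommRingCat.of (B k))).Opens) : Scheme.{u})))
            (morphismRestrict_ι (π k) U')]
        exact hP.symm))
    exact ⟨k, z, hz⟩
  have hbase : ∀ y : (q k).left, U'.ι.base (W.hom.base (ρ k y)) =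
      (π k).base (((q k).hom ≫ (π k ⁻¹ᵁ U').ι).base y) := fun y => by
    have h := congrArg (fun g => g.base y)
      ((congrArg (· ≫ U'.ι) (pullback.condition (f := W.hom) (g := π' k))).trans
        ((Category.assoc _ _ _).trans (congrArg (pullback.snd W.hom (π' k) ≫ ·) (morphismRestrict_ι (π k) U'))))
    exact h
  have hfmem : ∀ y : (q k).left, W.hom.base (ρ k y) ∈ Z ↔ algebraMap A (B k) f ∈
      ((((q k).hom ≫ (π k ⁻¹ᵁ U').ι).base y : Spec (CommRingCat.of (B k))) : PrimeSpectrum (B k)).asIdeal :=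
    fun y => by
      simp only [Z, hu]
      change f ∈ ((U'.ι.base (W.hom.base (ρ k y)) : Spec (CommRingCat.of A)) : PrimeSpectrum A).asIdeal ↔ _
      rw [hbase y]
      rfl
  rcases hB k with h0 | ⟨hreg, hass⟩
  · have hall : ∀ y, W.hom.base (ρ k y) ∈ Z := fun y => (hfmem y).mpr (by rw [h0]; exact zero_mem _)
    refine ⟨Set.univ, ρ k ⁻¹' C, isOpen_univ, Set.subset_univ _, ?_, fun y _ => Iff.rfl⟩
    have hc : Continuous fun y : ((W.hom.base ∘ ρ k) ⁻¹' Set.univ) =>
        (⟨ρ k y.1, hall y.1⟩ : {w : W.left // W.hom.base w ∈ Z}) :=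
      ((pullback.fst W.hom (π' k)).continuous.comp continuous_subtype_val).subtype_mk _
    exact hC.preimage hc
  · have hCk : IsClopen ((↑) ⁻¹' (ρ k ⁻¹' C) : Set {y : (q k).left | algebraMap A (B k) f ∈
        ((((q k).hom ≫ (π k ⁻¹ᵁ U').ι).base y : Spec (CommRingCat.of (B k))) : PrimeSpectrum (B k)).asIdeal}) := by
      have hc : Continuous fun y : {y : (q k).left | algebraMap A (B k) f ∈
          ((((q k).hom ≫ (π k ⁻¹ᵁ U').ι).base y : Spec (CommRingCat.of (B k))) : PrimeSpectrum (B k)).asIdeal} =>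
          (⟨ρ k y.1, (hfmem y.1).mpr y.2⟩ : {w : W.left // W.hom.base w ∈ Z}) :=
        ((pullback.fst W.hom (π' k)).continuous.comp continuous_subtype_val).subtype_mk _
      exact hC.preimage hc
    obtain ⟨V, D, hV, hZV, hD, hDC⟩ := exists_extension (B k) a f ham hcov
      (fun i => hreg (a i) (ham i)) hass
      (U := π k ⁻¹ᵁ U') ⟨fun P => hmem ((π k).base P)⟩ (q k).hom (q k).prop (ρ k ⁻¹' C) hCk
    -- push the neighbourhood down to `U'`
    let V₁ : Set ((π k ⁻¹ᵁ U' : (Spec (CommRingCat.of (B k))).Opens) : Scheme.{u}) :=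
      (π k ⁻¹ᵁ U').ι.base ⁻¹' V
    have hV₁ : IsOpen V₁ := hV.preimage (π k ⁻¹ᵁ U').ι.continuous
    refine ⟨((π' k).base '' V₁ᶜ)ᶜ, D,
      ((π' k).isClosedMap _ hV₁.isClosed_compl).isOpen_compl, ?_, ?_, fun y hy => hDC y ((hfmem y).mp hy)⟩
    · rintro z hz ⟨y, hy, rfl⟩
      refine hy (hZV _ y.2 ?_)
      simp only [Z, hu] at hz
      change f ∈ ((U'.ι.base ((π' k).base y) : Spec (CommRingCat.of A)) : PrimeSpectrum A).asIdeal at hz
      rw [show U'.ι.base ((π' k).base y) = (π k).base ((π k ⁻¹ᵁ U').ι.base y) from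
        congrArg (fun g => g.base y) (morphismRestrict_ι (π k) U')] at hz
      exact hz
    · have hin : ∀ y : ((W.hom.base ∘ ρ k) ⁻¹' ((π' k).base '' V₁ᶜ)ᶜ),
          ((((q k).hom ≫ (π k ⁻¹ᵁ U').ι).base y.1 : Spec (CommRingCat.of (B k))) : PrimeSpectrum (B k)) ∈ V :=
        fun y => by_contra fun h => y.2 ⟨(q k).hom.base y.1, h,
          (congrArg (fun g => g.base y.1) (pullback.condition (f := W.hom) (g := π' k))).symm⟩
      exact hD.preimage (continuous_subtype_val.subtype_mk hin)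

end Groth.Agent.H80.Clopen.Nbhd
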