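import Groth.Agent.H80.Clopen.Nbhd.Family

/-!
# The germ at the punctured spectrum of `A / f`
-/

set_option autoImplicit false
set_option backward.isDefEq.respectTransparency false

universe u

open CategoryTheory CategoryTheory.Limits AlgebraicGeometry IsLocalRing

namespace Groth.Agent.H80.Clopen.Nbhd

/-- A neighbourhood of the punctured spectrum of `A / f` contains its points. -/
theorem germ_facts {A : Type u} [CommRing A] [IsNoetherianRing A] [IsLocalRing A] (f : A)
    {U' : (Spec (CommRingCat.of A)).Opens} (hU' : U' ≤ FEt.puncturedSpec A)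
    (u' : pullback (FEt.puncturedSpec A).ι (Spec.map (CommRingCat.ofHom (Ideal.Quotient.mk (Ideal.span {f})))) ⟶ (U' : Scheme.{u}))
    (hu : u' ≫ U'.ι = pullback.fst (FEt.puncturedSpec A).ι
      (Spec.map (CommRingCat.ofHom (Ideal.Quotient.mk (Ideal.span {f})))) ≫ (FEt.puncturedSpec A).ι) :
    IsClosedImmersion u' ∧
      Set.range u'.base =
        {x | f ∈ ((U'.ι.base x : Spec (CommRingCat.of A)) : PrimeSpectrum A).asIdeal} ∧
      ∀ x : Spec (CommRingCat.of A), x ∈ FEt.puncturedSpec A →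
        f ∈ (x : PrimeSpectrum A).asIdeal → x ∈ U' := by
  obtain ⟨hcl, hg⟩ := range_fst_quotient (FEt.puncturedSpec A)
    (Ideal.Quotient.mk (Ideal.span {f})) Ideal.Quotient.mk_surjective
  have hmem : ∀ x, x ∈ Set.range (pullback.fst (FEt.puncturedSpec A).ι
      (Spec.map (CommRingCat.ofHom (Ideal.Quotient.mk (Ideal.span {f}))))).base ↔
        f ∈ (((FEt.puncturedSpec A).ι.base x : Spec (CommRingCat.of A)) : PrimeSpectrum A).asIdeal := by
    intro x
    rw [hg, Ideal.mk_ker]
    exact Ideal.span_singleton_le_iff_mem _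
  let j := (Spec (CommRingCat.of A)).homOfLE hU'
  have hj : u' ≫ j = pullback.fst (FEt.puncturedSpec A).ι
      (Spec.map (CommRingCat.ofHom (Ideal.Quotient.mk (Ideal.span {f})))) := by
    rw [← cancel_mono (FEt.puncturedSpec A).ι, Category.assoc, Scheme.homOfLE_ι]
    exact hu
  have hcl' : IsClosedImmersion (u' ≫ j) := by rw [hj]; exact hcl
  refine ⟨IsClosedImmersion.of_comp u' j, ?_, fun x hx hfx => ?_⟩
  · ext x
    have hx : U'.ι.base x = (FEt.puncturedSpec A).ι.base (j.base x) :=
      (congrArg (fun g => g.base x) ((Spec (CommRingCat.of A)).homOfLE_ι hU')).symm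
    change x ∈ Set.range u'.base ↔ f ∈ ((U'.ι.base x : Spec (CommRingCat.of A)) : PrimeSpectrum A).asIdeal
    rw [hx, ← hmem, ← hj]
    exact ⟨fun ⟨t, ht⟩ => ⟨t, congrArg j.base ht⟩,
      fun ⟨t, ht⟩ => ⟨t, j.isOpenEmbedding.injective ht⟩⟩
  · obtain ⟨t, ht⟩ := (hmem ⟨x, hx⟩).mpr hfx
    have h := congrArg (fun g => g.base t) hu
    have h2 : U'.ι.base (u'.base t) = x := h.trans (congrArg (FEt.puncturedSpec A).ι.base ht)
    rw [← h2]
    exact (u'.base t).2

end Groth.Agent.H80.Clopen.Nbhd
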