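import Groth.Agent.H80.Clopen.Nbhd.Level
import Groth.Agent.H80.Clopen.Torsion.Duality
import Groth.Agent.Lib.DMod.SkCriterion
import Groth.Agent.Lib.PushDepth.Alg
import Groth.Agent.Lib.RGamma.HTPowers
import Groth.Agent.S1727
import Mathlib.RingTheory.Ideal.GoingUp

/-!
# A finite birational extension with `f` regular and finite `H¹` of the quotient by `f`

For a prime `P ∌ f` of dimension at least three over a base with a dualizing complex, the sections of
`A / P` off the finitely many bad curves of `V(f)` form a finite algebra.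
-/

set_option autoImplicit false
set_option backward.isDefEq.respectTransparency false

universe u
attribute [local instance] HasDerivedCategory.standard

open CategoryTheory IsLocalRing Groth.Agent.Lib.DMod

namespace Groth.Agent.H80.Clopen.Nbhd

variable {A : Type u} [CommRing A] [IsNoetherianRing A]

/-- `H¹_J` of a domain is finite when `V(J)` has codimension at least two in it. -/
theorem finite_H1_quotient_prime (hd : ∃ ω : Dual.D A, Dual.IsDualizing A ω) (J P : Ideal A)
    [P.IsPrime]
    (h : ∀ q : PrimeSpectrum A, P ≤ q.asIdeal → J ≤ q.asIdeal → ¬ J ≤ P →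
      ∃ r : PrimeSpectrum A, P < r.asIdeal ∧ r < q) :
    Module.Finite A (LocCoh.H J 1 (A ⧸ P)) := by
  let T : Set (PrimeSpectrum A) := PrimeSpectrum.zeroLocus (J : Set A)
  have hT : StableUnderSpecialization T :=
    (PrimeSpectrum.isClosed_zeroLocus _).stableUnderSpecialization
  have hfin := (S1727.result A hd T hT 1 (A ⧸ P)).mpr ?_ 1 le_rfl
  · obtain ⟨e⟩ := Lib.RGamma.HTPowers.nonempty_equiv J 1 (A ⧸ P)
    exact Module.Finite.equiv e
  intro p q hp hq hpq
  have hne : p < q := lt_of_le_of_ne hpq fun e => hp (e ▸ hq)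
  have hJq : J ≤ q.asIdeal := hq
  by_cases hPp : P ≤ p.asIdeal
  · rcases hPp.eq_or_lt with hPe | hPl
    · obtain ⟨r, hr, hrq⟩ := h q (hPp.trans hpq) hJq (fun hJP => hp (hJP.trans hPp))
      have hpr : p < r := by
        change p.asIdeal < r.asIdeal
        rwa [← hPe]
      let l : LTSeries (Set.Icc p q) :=
        (((RelSeries.singleton _ (⟨p, le_rfl, hpq⟩ : Set.Icc p q)).snoc
          ⟨r, hpr.le, hrq.le⟩ hpr).snoc ⟨q, hpq, le_rfl⟩ (by simpa using hrq))
      refine lt_of_lt_of_le ?_ (le_add_of_nonneg_left (WithBot.coe_le_coe.mpr bot_le))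
      refine lt_of_lt_of_le ?_ (Order.LTSeries.length_le_krullDim l)
      simp [l]
    · obtain ⟨z, hz, hzP⟩ := SetLike.exists_of_lt hPl
      have hdep : (1 : ℕ∞) ≤ LocCoh.depth (Localization.AtPrime p.asIdeal)
          (LocalizedModule p.asIdeal.primeCompl (A ⧸ P)) := by
        refine Lib.PushDepth.one_le_depth
          (x := algebraMap A (Localization.AtPrime p.asIdeal) z)
          ((IsLocalization.AtPrime.to_map_mem_maximal_iff _ _ z).mpr hz) ?_
        intro x y hxy
        rw [← sub_eq_zero] at hxy ⊢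
        simp only [← smul_sub, algebraMap_smul] at hxy
        generalize x - y = w at hxy ⊢
        induction w using LocalizedModule.induction_on with
        | h m s =>
          rw [LocalizedModule.smul'_mk, LocalizedModule.zero_mk s |>.symm, LocalizedModule.mk_eq] at hxy
          obtain ⟨u, hu⟩ := hxy
          simp only [smul_zero] at hu
          rw [← LocalizedModule.zero_mk s, LocalizedModule.mk_eq]
          refine ⟨u, ?_⟩
          simp only [smul_zero]
          obtain ⟨m, rfl⟩ := Ideal.Quotient.mk_surjective m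
          rw [Submonoid.smul_def, Submonoid.smul_def, smul_smul] at hu ⊢
          rw [smul_smul] at hu
          rw [← Ideal.Quotient.mkₐ_eq_mk A, ← map_smul, Ideal.Quotient.mkₐ_eq_mk,
            Ideal.Quotient.eq_zero_iff_mem, smul_eq_mul] at hu ⊢
          have : z * (((u : A) * (s : A)) * m) ∈ P := by
            convert hu using 1
            ring
          exact (‹P.IsPrime›.mem_or_mem this).resolve_left hzP
      have h1 : (1 : WithBot ℕ∞) ≤ Order.krullDim (Set.Icc p q) := by
        refine le_trans ?_ (Order.LTSeries.length_le_krullDim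
          ((RelSeries.singleton _ (⟨p, le_rfl, hpq⟩ : Set.Icc p q)).snoc ⟨q, hpq, le_rfl⟩ hne))
        simp
      refine lt_of_lt_of_le ?_ (add_le_add (WithBot.coe_le_coe.mpr hdep) h1)
      norm_num
  · have : Subsingleton (LocalizedModule p.asIdeal.primeCompl (A ⧸ P)) := by
      obtain ⟨z, hz, hzp⟩ := SetLike.not_le_iff_exists.mp hPp
      rw [LocalizedModule.subsingleton_iff]
      intro m
      obtain ⟨m, rfl⟩ := Ideal.Quotient.mk_surjective m
      refine ⟨z, hzp, ?_⟩
      rw [← Ideal.Quotient.mkₐ_eq_mk A, ← map_smul, Ideal.Quotient.mkₐ_eq_mk,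
        Ideal.Quotient.eq_zero_iff_mem]
      exact P.mul_mem_right _ hz
    rw [Lib.DMod.SkCriterion.depth_of_subsingleton]
    refine lt_of_lt_of_le ?_ (le_add_of_nonneg_right ?_)
    · exact WithBot.coe_lt_coe.mpr (ENat.coe_lt_top 1)
    · exact Order.krullDim_nonneg_iff.mpr ⟨⟨p, le_rfl, hpq⟩⟩

variable [IsLocalRing A]

/-- A prime strictly between two primes whose dimensions differ by at least two. -/
theorem exists_between {ω : Dual.D A} (hω : Dual.IsDualizing A ω) (hn : Dual.IsNormalized A ω)
    (P q : PrimeSpectrum A) (hPq : P < q) (k : ℕ) (hP : ((k + 2 : ℕ) : WithBot ℕ∞) ≤ ringKrullDim (A ⧸ P.asIdeal))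
    (hq : ringKrullDim (A ⧸ q.asIdeal) ≤ (k : WithBot ℕ∞)) :
    ∃ r : PrimeSpectrum A, P < r ∧ r < q := by
  by_contra hno
  push_neg at hno
  obtain ⟨x, hxq, hxP⟩ := Degree.exists_mem_notMem hPq
  have hstep := Degree.deg_eq_add_one hω (q := P) (p := q) hPq.le hxq hxP fun r hrq hPr hxr =>
    (eq_of_le_of_not_lt hrq (hno r (lt_of_le_of_ne hPr fun e => hxP (e ▸ hxr))))
  rw [LocalCase.ringKrullDim_quotient_eq_neg_deg hω hn P] at hP
  rw [LocalCase.ringKrullDim_quotient_eq_neg_deg hω hn q] at hq
  have h1 := LocalCase.deg_nonpos hω hn q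
  have h2 : k + 2 ≤ (-Degree.deg hω P).toNat := by exact_mod_cast hP
  have h3 : (-Degree.deg hω q).toNat ≤ k := by exact_mod_cast hq
  lia

/-- A finite algebra over `A / P` with the properties needed on the component `V(P)`. -/
theorem exists_component_algebra (hd : ∃ ω : Dual.D A, Dual.IsDualizing A ω) (f : A)
    (hf : f ∈ maximalIdeal A) (P : Ideal A) [P.IsPrime]
    (h3 : f ∉ P → (3 : WithBot ℕ∞) ≤ ringKrullDim (A ⧸ P)) :
    ∃ (B : Type u) (_ : CommRing B) (_ : Algebra A B), Module.Finite A B ∧
      (∀ p : PrimeSpectrum A, P ≤ p.asIdeal →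
        ∃ Q : PrimeSpectrum B, PrimeSpectrum.comap (algebraMap A B) Q = p) ∧
      (algebraMap A B f = 0 ∨
        ((∀ a ∈ maximalIdeal A, ∀ b : B, f • b = 0 → ∃ l : ℕ, a ^ l • b = 0) ∧
          ∀ p ∈ associatedPrimes A (B ⧸ Ideal.span {algebraMap A B f}),
            ¬ maximalIdeal A ≤ p → Module.Finite A (LocCoh.H (maximalIdeal A) 1 (A ⧸ p)))) := by
  classical
  by_cases hfP : f ∈ P
  · refine ⟨A ⧸ P, inferInstance, inferInstance, inferInstance, fun p hp => ?_,
      .inl (Ideal.Quotient.eq_zero_iff_mem.mpr hfP)⟩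
    have : p ∈ Set.range (PrimeSpectrum.comap (algebraMap A (A ⧸ P))) := by
      rw [show algebraMap A (A ⧸ P) = Ideal.Quotient.mk P from rfl,
        range_comap_of_surjective _ _ Ideal.Quotient.mk_surjective, Ideal.mk_ker]
      exact hp
    exact this
  have h3 := h3 hfP
  obtain ⟨ω₀, hω₀⟩ := hd
  obtain ⟨sh, hn⟩ := Conservative.exists_normalized_shift hω₀
  have hω := Gorenstein.isDualizing_shift hω₀ sh
  have hd : ∃ ω : Dual.D A, Dual.IsDualizing A ω := ⟨ω₀, hω₀⟩
  let D := A ⧸ P
  let fD : D := algebraMap A D f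
  -- the bad primes
  have hTfin : {p | p ∈ associatedPrimes A (D ⧸ Ideal.span {fD}) ∧
      ringKrullDim (A ⧸ p) ≤ (1 : ℕ)}.Finite :=
    (associatedPrimes.finite A _).subset fun p hp => hp.1
  let S := hTfin.toFinset
  let J : Ideal A := maximalIdeal A ⊓ S.inf id
  have hassf : ∀ p ∈ associatedPrimes A (D ⧸ Ideal.span {fD}), f ∈ p := by
    intro p hp
    obtain ⟨_, x, hx⟩ := isAssociatedPrime_iff.mp hp
    rw [hx, Submodule.mem_colon_singleton, Submodule.mem_bot]
    obtain ⟨y, rfl⟩ := Ideal.Quotient.mk_surjective x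
    rw [← Ideal.Quotient.mkₐ_eq_mk A, ← map_smul, Ideal.Quotient.mkₐ_eq_mk,
      Ideal.Quotient.eq_zero_iff_mem]
    exact mem_span_iff.mpr ⟨y, rfl⟩
  have hfJ : f ∈ J := ⟨hf, (Submodule.mem_finsetInf).mpr fun p hp => hassf p (hTfin.mem_toFinset.mp hp).1⟩
  have hJfin : Module.Finite A (LocCoh.H J 1 D) := by
    refine finite_H1_quotient_prime hd J P fun q hPq hJq _ => ?_
    let Pp : PrimeSpectrum A := ⟨P, inferInstance⟩
    have hne : Pp < q := lt_of_le_of_ne (hPq : Pp ≤ q) fun e => hfP (by
      rw [show P = q.asIdeal from congrArg PrimeSpectrum.asIdeal e]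
      exact hJq hfJ)
    have h' : ringKrullDim (A ⧸ q.asIdeal) ≤ (1 : ℕ) := by
      rcases q.isPrime.inf_le.mp hJq with h | h
      · have hq : q = IsLocalRing.closedPoint A :=
          PrimeSpectrum.ext (le_antisymm (IsLocalRing.le_maximalIdeal q.isPrime.ne_top) h)
        rw [LocalCase.ringKrullDim_quotient_eq_neg_deg hω hn q, hq,
          LocalCase.deg_closedPoint_eq_zero hω hn]
        simp
      · obtain ⟨p, hp, hpq⟩ := (Ideal.IsPrime.inf_le' q.isPrime).mp h
        refine le_trans ?_ (hTfin.mem_toFinset.mp hp).2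
        exact ringKrullDim_le_of_surjective (Ideal.Quotient.factor hpq)
          (Ideal.Quotient.factor_surjective hpq)
    exact exists_between hω hn Pp q hne 1 (by exact_mod_cast h3) h'
  obtain ⟨n, a, ha⟩ := Submodule.fg_iff_exists_fin_generating_family.mp (IsNoetherian.noetherian J)
  -- a power of `f` kills `H¹_J`
  obtain ⟨N, hN⟩ : ∃ N : ℕ, ∀ z : LocCoh.H (Ideal.span (Set.range a)) 1 D, f ^ N • z = 0 := by
    rw [show Ideal.span (Set.range a) = J from ha]
    obtain ⟨G, hG⟩ := hJfin.fg_top
    choose e he using fun z : G => Lib.LocalCoh.isPowerTorsion_lc J 1 (ModuleCat.of A D) z.1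
    refine ⟨Finset.univ.sup e, fun z => ?_⟩
    have hz : z ∈ Submodule.span A (G : Set (LocCoh.H J 1 D)) := hG ▸ trivial
    induction hz using Submodule.span_induction with
    | mem w hw =>
      exact he ⟨w, hw⟩ _ (Ideal.pow_le_pow_right (Finset.le_sup (Finset.mem_univ _))
        (Ideal.pow_mem_pow hfJ _))
    | zero => exact smul_zero _
    | add x y _ _ hx hy => rw [smul_add, hx, hy, add_zero]
    | smul c x _ hx => rw [smul_comm, hx, smul_zero]
  let K := Localization.Away fD
  have hfne : fD ≠ 0 := fun h => hfP (Ideal.Quotient.eq_zero_iff_mem.mp h)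
  have hinj : Function.Injective (algebraMap D K) :=
    IsLocalization.injective K (powers_le_nonZeroDivisors_of_noZeroDivisors hfne)
  have hfK : IsUnit (algebraMap A K f) := by
    rw [IsScalarTower.algebraMap_apply A D K]
    exact IsLocalization.Away.algebraMap_isUnit fD
  let ρ : D →ₗ[A] K := (IsScalarTower.toAlgHom A D K).toLinearMap
  have hρinj : Function.Injective ρ := hinj
  let B : Subalgebra A K :=
    { carrier := {x | ∀ i, ∃ l : ℕ, a i ^ l • x ∈ LinearMap.range ρ}
      mul_mem' := fun {x y} hx hy i => by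
        obtain ⟨l, c, hc⟩ := hx i
        obtain ⟨l', c', hc'⟩ := hy i
        exact ⟨l + l', c * c', by
          change algebraMap D K (c * c') = _
          rw [map_mul, show algebraMap D K c = a i ^ l • x from hc,
            show algebraMap D K c' = a i ^ l' • y from hc', smul_mul_smul_comm, ← pow_add]⟩
      add_mem' := fun {x y} hx hy i => by
        obtain ⟨l, hl⟩ := hx i
        obtain ⟨l', hl'⟩ := hy i
        refine ⟨l + l', ?_⟩
        rw [smul_add]
        refine add_mem ?_ ?_
        · rw [add_comm, pow_add, mul_smul]; exact Submodule.smul_mem _ _ hl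
        · rw [pow_add, mul_smul]; exact Submodule.smul_mem _ _ hl'
      algebraMap_mem' := fun r i => ⟨0, by
        rw [pow_zero, one_smul]
        exact ⟨algebraMap A D r, (IsScalarTower.algebraMap_apply A D K r).symm⟩⟩ }
  have hfinj : ∀ (m : ℕ) (x y : K), f ^ m • x = f ^ m • y → x = y := fun m x y h => by
    rw [Algebra.smul_def, Algebra.smul_def, map_pow] at h
    exact (hfK.pow m).mul_left_cancel h
  have hlocK : ∀ x : K, (∀ i, ∃ l : ℕ, a i ^ l • x = 0) → x = 0 := by
    intro x hx
    obtain ⟨L, hL⟩ := Torsion.exists_common_exponent a (fun _ => x) hx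
    obtain ⟨Pw, hP⟩ := Torsion.exists_pow_le_span_pow a L
    obtain ⟨c, hc⟩ := Ideal.mem_span_range_iff_exists_fun.mp
      (hP (Ideal.pow_mem_pow (show f ∈ Ideal.span (Set.range a) by
        rw [show Ideal.span (Set.range a) = J from ha]; exact hfJ) Pw))
    refine hfinj Pw x 0 ?_
    rw [smul_zero, ← hc, Finset.sum_smul]
    exact Finset.sum_eq_zero fun i _ => by rw [mul_smul, hL, smul_zero]
  have hmemB : ∀ x : K, x ∈ B → f ^ N • x ∈ LinearMap.range ρ := by
    intro x hx
    choose l hl using hx
    let L := Finset.univ.sup l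
    have hL : ∀ i, ∃ c : D, ρ c = a i ^ L • x := fun i => by
      rw [show L = (L - l i) + l i from
        (Nat.sub_add_cancel (Finset.le_sup (f := l) (Finset.mem_univ i))).symm, pow_add, mul_smul]
      exact Submodule.smul_mem _ _ (hl i)
    choose c hc using hL
    obtain ⟨z, hz⟩ := Torsion.glue_of_killed (M := D) a hN (k := L) (m := c) fun i j =>
      ⟨0, hρinj (by
        rw [pow_zero, one_smul, map_sub, map_smul, map_smul, hc, hc, smul_comm, sub_self, map_zero])⟩
    refine ⟨z, sub_eq_zero.mp (hlocK _ fun i => ?_)⟩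
    obtain ⟨e, he⟩ := hz i
    refine ⟨e + L, ?_⟩
    have := congrArg ρ he
    rw [map_smul, map_sub, map_smul, map_smul, map_zero, hc, smul_comm (f ^ N), ← smul_sub,
      ← mul_smul, ← pow_add] at this
    exact this
  have hBfin : Module.Finite A B := by
    have : Module.Finite A (LinearMap.range ρ) := Module.Finite.range ρ
    have : IsNoetherian A (LinearMap.range ρ) := isNoetherian_of_isNoetherianRing_of_finite A _
    refine Module.Finite.of_injective (LinearMap.codRestrict (LinearMap.range ρ)
      ((f ^ N) • B.val.toLinearMap) fun x => hmemB x.1 x.2) fun x y h => Subtype.ext ?_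
    exact hfinj N _ _ (congrArg Subtype.val h)
  refine ⟨B, inferInstance, inferInstance, hBfin, fun p hp => ?_, .inr ⟨fun _ _ b hb => ⟨0, ?_⟩, ?_⟩⟩
  · have hker : RingHom.ker (algebraMap A B) ≤ p.asIdeal := fun r hr => hp (by
      have h0 : algebraMap D K (algebraMap A D r) = 0 := by
        rw [← IsScalarTower.algebraMap_apply]
        exact congrArg Subtype.val (RingHom.mem_ker.mp hr)
      exact Ideal.Quotient.eq_zero_iff_mem.mp (hinj (h0.trans (map_zero _).symm)))
    have : Algebra.IsIntegral A B := Algebra.IsIntegral.of_finite A B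
    obtain ⟨Q, -, hQ, hQc⟩ := Ideal.exists_ideal_over_prime_of_isIntegral p.asIdeal (⊥ : Ideal B)
      (by rwa [← RingHom.ker_eq_comap_bot])
    exact ⟨⟨Q, hQ⟩, PrimeSpectrum.ext hQc⟩
  · rw [pow_zero, one_smul]
    exact Subtype.ext (hfinj 1 b.1 0 (by rw [pow_one, smul_zero]; exact congrArg Subtype.val hb))
  · intro p hp hm
    obtain ⟨hP', x, hx⟩ := isAssociatedPrime_iff.mp hp
    obtain ⟨x, rfl⟩ := Ideal.Quotient.mk_surjective x
    have hmem : ∀ r : A, r ∈ p ↔ ∃ y : B, r • x = f • y := fun r => by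
      rw [hx, Submodule.mem_colon_singleton, Submodule.mem_bot, ← Ideal.Quotient.mkₐ_eq_mk A,
        ← map_smul, Ideal.Quotient.mkₐ_eq_mk, Ideal.Quotient.eq_zero_iff_mem]
      exact mem_span_iff
    refine finite_H1_quotient_prime hd (maximalIdeal A) p fun q hpq hmq _ => ?_
    have hq : q = IsLocalRing.closedPoint A :=
      PrimeSpectrum.ext (le_antisymm (IsLocalRing.le_maximalIdeal q.isPrime.ne_top) hmq)
    let pp : PrimeSpectrum A := ⟨p, hP'⟩
    have hlt : pp < q := lt_of_le_of_ne (hpq : pp ≤ q) fun e => hm (hmq.trans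
      (congrArg PrimeSpectrum.asIdeal e).ge)
    refine exists_between hω hn pp q hlt 0 ?_ ?_
    swap
    · rw [LocalCase.ringKrullDim_quotient_eq_neg_deg hω hn q, hq,
        LocalCase.deg_closedPoint_eq_zero hω hn]
      simp
    by_contra hdim
    have hdim1 : ringKrullDim (A ⧸ p) ≤ (1 : ℕ) := by
      have h' : ringKrullDim (A ⧸ p) = ((-Degree.deg hω pp).toNat : WithBot ℕ∞) :=
        LocalCase.ringKrullDim_quotient_eq_neg_deg hω hn pp
      change ¬ ((0 + 2 : ℕ) : WithBot ℕ∞) ≤ ringKrullDim (A ⧸ p) at hdim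
      rw [h'] at hdim ⊢
      have : ¬ 2 ≤ (-Degree.deg hω pp).toNat := fun h => hdim (by exact_mod_cast h)
      exact_mod_cast (by lia : (-Degree.deg hω pp).toNat ≤ 1)
    by_cases hJp : J ≤ p
    · have hai : ∀ i, ∃ y : B, a i • x = f • y := fun i =>
        (hmem _).mp (hJp (ha ▸ Submodule.subset_span (Set.mem_range_self i)))
      choose y hy using hai
      let z : K := hfK.unit⁻¹ * x.1
      have hfz : f • z = x.1 := by
        rw [Algebra.smul_def, ← mul_assoc, hfK.mul_val_inv, one_mul]
      have hz : z ∈ B := fun i => by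
        obtain ⟨l, hl⟩ := (y i).2 i
        refine ⟨l + 1, ?_⟩
        have : a i • z = (y i).1 := hfinj 1 _ _ (by
          rw [pow_one, smul_comm, hfz]
          exact congrArg Subtype.val (hy i))
        rw [pow_succ, mul_smul, this]
        exact hl
      exact hP'.ne_top ((Ideal.eq_top_iff_one _).mpr
        ((hmem 1).mpr ⟨⟨z, hz⟩, Subtype.ext (by rw [one_smul]; exact hfz.symm)⟩))
    · obtain ⟨i, hi⟩ : ∃ i, a i ∉ p := by
        by_contra hne
        push_neg at hne
        exact hJp (ha ▸ Submodule.span_le.mpr (Set.range_subset_iff.mpr hne))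
      obtain ⟨l, d, hd'⟩ := x.2 i
      obtain ⟨G, hG⟩ := IsNoetherian.noetherian p
      have hg : ∀ r : G, ∃ t : ℕ, a i ^ t • (r.1 • d) ∈ Ideal.span {fD} := fun r => by
        obtain ⟨y, hy⟩ := (hmem r.1).mp (hG ▸ Submodule.subset_span r.2)
        obtain ⟨t, e, he⟩ := y.2 i
        refine ⟨t, mem_span_iff.mpr ⟨a i ^ l • e, hρinj ?_⟩⟩
        have hy' : r.1 • x.1 = f • y.1 := congrArg Subtype.val hy
        rw [map_smul, map_smul, map_smul, map_smul, hd', he]
        rw [smul_comm r.1 (a i ^ l), hy', smul_comm (a i ^ t), smul_comm (a i ^ t) f,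
          smul_comm (a i ^ l) f]
      choose t ht using hg
      refine hJp (le_trans inf_le_right (Finset.inf_le (f := id) (hTfin.mem_toFinset.mpr
        ⟨isAssociatedPrime_iff.mpr ⟨hP', Ideal.Quotient.mk _ (a i ^ Finset.univ.sup t • d), ?_⟩,
          hdim1⟩)))
      ext r
      rw [Submodule.mem_colon_singleton, Submodule.mem_bot, ← Ideal.Quotient.mkₐ_eq_mk A,
        ← map_smul, Ideal.Quotient.mkₐ_eq_mk, Ideal.Quotient.eq_zero_iff_mem]
      constructor
      · intro hr
        have hr' : r ∈ Submodule.span A (G : Set A) := hG.symm ▸ hr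
        induction hr' using Submodule.span_induction with
        | mem w hw =>
          rw [smul_comm, ← Nat.sub_add_cancel (Finset.le_sup (f := t) (Finset.mem_univ ⟨w, hw⟩)),
            pow_add, mul_smul]
          exact Submodule.smul_of_tower_mem _ _ (ht ⟨w, hw⟩)
        | zero => rw [zero_smul]; exact zero_mem _
        | add u v hu hv hu' hv' =>
          rw [add_smul]
          exact add_mem (hu' (hG ▸ hu)) (hv' (hG ▸ hv))
        | smul c u hu hu' =>
          rw [smul_assoc]
          exact Submodule.smul_of_tower_mem _ c (hu' (hG ▸ hu))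
      · intro hr
        obtain ⟨e, he⟩ := mem_span_iff.mp hr
        have : r * a i ^ (Finset.univ.sup t + l) ∈ p := by
          refine (hmem _).mpr ⟨⟨ρ e, fun j => ⟨0, by rw [pow_zero, one_smul]; exact ⟨e, rfl⟩⟩⟩,
            Subtype.ext ?_⟩
          have := congrArg ρ he
          rw [map_smul, map_smul, map_smul, hd'] at this
          rw [mul_smul, pow_add, mul_smul]
          exact this
        exact (hP'.mem_or_mem this).resolve_right fun h => hi (hP'.mem_of_pow_mem _ h)

end Groth.Agent.H80.Clopen.Nbhd
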